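import Groth.Agent.PureCritLib.Tools
import Groth.Agent.DevLib.ProjCover
import Groth.Agent.DevLib.Descend
import Groth.Agent.RelAssLib.Fibre

/-!
# Pure modules are projective on an étale neighbourhood of the base
-/

set_option autoImplicit false
set_option linter.style.haveILetI false
set_option backward.isDefEq.respectTransparency false
set_option backward.isDefEq.respectTransparency.types false
set_option maxHeartbeats 2000000

universe u

open TensorProduct

noncomputable section

namespace Groth.Agent.PureCritLib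

attribute [local instance] Algebra.TensorProduct.rightAlgebra

/-- Associated points of nearby fibres lying in the image of a flat algebra. -/
theorem exists_spread {A B S' : Type u} [CommRing A] [CommRing B] [CommRing S'] [Algebra A B] [Algebra B S']
    [Algebra.FinitePresentation A B] [Module.Flat B S'] [Algebra.FinitePresentation B S']
    (N : Type u) [AddCommGroup N] [Module B N] [Module A N] [IsScalarTower A B N] [Module.FinitePresentation B N]
    (p : Ideal A) [p.IsPrime]
    (hspec : ∀ (t : Ideal A) [t.IsPrime], t ≤ p → ∀ (Q : Ideal B) [Q.IsPrime], Q.LiesOver t →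
      FlatCA.fiberIdeal t Q ∈ associatedPrimes (t.Fiber B) (FlatCA.fiberMod t B N) →
      ∃ P' : Ideal B, P'.IsPrime ∧ Q ≤ P' ∧ P'.LiesOver p)
    (hcov : ∀ (P' : Ideal B) [P'.IsPrime], P'.LiesOver p → ∃ y : Ideal S', y.IsPrime ∧ y.comap (algebraMap B S') = P') :
    ∃ f : A, f ∉ p ∧ ∀ (t : Ideal A) [t.IsPrime], f ∉ t → ∀ (Q : Ideal B) [Q.IsPrime], Q.LiesOver t →
      FlatCA.fiberIdeal t Q ∈ associatedPrimes (t.Fiber B) (FlatCA.fiberMod t B N) →
      ∃ y : Ideal S', y.IsPrime ∧ y.comap (algebraMap B S') = Q := by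
  classical
  let U : Set (PrimeSpectrum B) := Set.range (PrimeSpectrum.comap (algebraMap B S'))
  have hUo : IsOpen U := PrimeSpectrum.isOpenMap_comap_of_hasGoingDown_of_finitePresentation.isOpen_range
  have hUc : IsCompact U := isCompact_range (PrimeSpectrum.continuous_comap _)
  have hb : ∀ x : U, ∃ g : B, g ∉ x.1.asIdeal ∧ (PrimeSpectrum.basicOpen g : Set (PrimeSpectrum B)) ⊆ U := fun x => by
    obtain ⟨_, ⟨g, rfl⟩, hg, hsub⟩ := PrimeSpectrum.isTopologicalBasis_basic_opens.exists_subset_of_mem_open x.2 hUo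
    exact ⟨g, hg, hsub⟩
  choose g hg hgsub using hb
  obtain ⟨s, hs⟩ := hUc.elim_finite_subcover (fun x : U => (PrimeSpectrum.basicOpen (g x) : Set (PrimeSpectrum B)))
    (fun x => (PrimeSpectrum.basicOpen (g x)).2) fun x hx => Set.mem_iUnion.2 ⟨⟨x, hx⟩, hg ⟨x, hx⟩⟩
  let G : Fin s.card → B := fun i => g (s.equivFin.symm i).1
  have hiff : ∀ Q : PrimeSpectrum B, Q ∈ U ↔ ∃ j, G j ∉ Q.asIdeal := fun Q => by
    refine ⟨fun hQ => ?_, fun ⟨j, hj⟩ => hgsub _ hj⟩
    obtain ⟨x, hx⟩ := Set.mem_iUnion.1 (hs hQ)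
    obtain ⟨hxs, hxQ⟩ := Set.mem_iUnion.1 hx
    exact ⟨s.equivFin ⟨x, hxs⟩, by simpa [G] using hxQ⟩
  obtain ⟨f, hf, hfE⟩ := exists_basicOpen_subset (isConstructible_assAvoid N G) p fun t htp P hP => by
    haveI := hP.1
    haveI := FibAssLib.comap_liesOver t.asIdeal P
    let Q := P.comap (CAlgFib.ι (S := B) t.asIdeal)
    obtain ⟨P', hP', hQP', hP'p⟩ := hspec t.asIdeal htp Q inferInstance
      (by rw [FibAssLib.eq_fiberIdeal_of_comap t.asIdeal rfl]; exact hP)
    obtain ⟨y, hy, hyP⟩ := hcov P' hP'p
    obtain ⟨j, hj⟩ := (hiff ⟨P', hP'⟩).1 ⟨⟨y, hy⟩, PrimeSpectrum.ext hyP⟩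
    exact ⟨j, fun hm => hj (hQP' hm)⟩
  refine ⟨f, hf, fun t _ hft Q _ hQt hQ => ?_⟩
  haveI := hQt
  obtain ⟨j, hj⟩ := hfE ⟨t, inferInstance⟩ hft _ hQ
  obtain ⟨y, hy⟩ := (hiff ⟨Q, inferInstance⟩).2 ⟨j, fun hm => hj (Ideal.mem_map_of_mem _ hm)⟩
  exact ⟨y.asIdeal, y.2, congrArg PrimeSpectrum.asIdeal hy⟩

/-- The covering condition after localisation of the base. -/
theorem exists_localized_cover {A A'' B B'' S' S'' : Type u} [CommRing A] [CommRing A''] [CommRing B] [CommRing B''] [CommRing S']
    [CommRing S''] [Algebra A A''] [Algebra A B] [Algebra A'' B''] [Algebra B B''] [Algebra A B''] [IsScalarTower A A'' B'']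
    [IsScalarTower A B B''] [Algebra.IsPushout A A'' B B''] (f : A) [IsLocalization.Away f A'']
    [Algebra B S'] [Algebra A S'] [IsScalarTower A B S'] [Algebra S' S''] [Algebra B'' S''] [Algebra B S'']
    [IsScalarTower B S' S''] [IsScalarTower B B'' S''] [IsLocalization.Away (algebraMap A S' f) S'']
    [Algebra.FiniteType A B]
    (N : Type u) [AddCommGroup N] [Module B N]
    {N'' : Type u} [AddCommGroup N''] [Module B'' N''] [Module B N''] [IsScalarTower B B'' N''] [Module A'' N'']
    [IsScalarTower A'' B'' N''] [Module A N] [IsScalarTower A B N]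
    (φ : N →ₗ[B] N'') (hφ : IsBaseChange B'' φ)
    (h : ∀ (t : Ideal A) [t.IsPrime], f ∉ t → ∀ (Q : Ideal B) [Q.IsPrime], Q.LiesOver t →
      FlatCA.fiberIdeal t Q ∈ associatedPrimes (t.Fiber B) (FlatCA.fiberMod t B N) →
      ∃ y : Ideal S', y.IsPrime ∧ y.comap (algebraMap B S') = Q)
    (t : Ideal A'') [t.IsPrime] (q : Ideal B'') [q.IsPrime] [q.LiesOver t]
    (hq : FlatCA.fiberIdeal t q ∈ associatedPrimes (t.Fiber B'') (FlatCA.fiberMod t B'' N'')) :
    ∃ q' : Ideal S'', q'.IsPrime ∧ q'.comap (algebraMap B'' S'') = q := by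
  haveI : Algebra.FiniteType A'' B'' := Algebra.FiniteType.equiv inferInstance (Algebra.IsPushout.equiv A A'' B B'')
  let t₀ := t.comap (algebraMap A A'')
  haveI : t.LiesOver t₀ := ⟨rfl⟩
  have hft : f ∉ t₀ := fun hm => ‹t.IsPrime›.ne_top (Ideal.eq_top_of_isUnit_mem _ hm (IsLocalization.Away.algebraMap_isUnit f))
  have hQt : (q.under B).LiesOver t₀ := ⟨by
    rw [Ideal.under_def, Ideal.under_def, Ideal.comap_comap, ← IsScalarTower.algebraMap_eq,
      IsScalarTower.algebraMap_eq A A'' B'', ← Ideal.comap_comap]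
    exact congrArg (Ideal.comap (algebraMap A A'')) (q.over_def t)⟩
  haveI := hQt
  obtain ⟨y, hy, hyQ⟩ := h t₀ hft (q.under B) hQt
    ((RelAssLib.fibre_ass_baseChange φ hφ t₀ t).2.1 q hq)
  haveI := hy
  have hfy : algebraMap A S' f ∉ y := fun hm => hft (by
    show algebraMap A A'' f ∈ t
    refine (q.over_def t).ge ?_
    show algebraMap A'' B'' (algebraMap A A'' f) ∈ q
    rw [← IsScalarTower.algebraMap_apply, IsScalarTower.algebraMap_apply A B B'']
    show algebraMap A B f ∈ q.under B
    rw [← hyQ]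
    show algebraMap B S' (algebraMap A B f) ∈ y
    rw [← IsScalarTower.algebraMap_apply]
    exact hm)
  have hd : Disjoint (Submonoid.powers (algebraMap A S' f) : Set S') y :=
    (Ideal.disjoint_powers_iff_notMem _ hy.isRadical).2 hfy
  let q' : Ideal S'' := y.map (algebraMap S' S'')
  haveI : q'.IsPrime := IsLocalization.isPrime_of_isPrime_disjoint (Submonoid.powers (algebraMap A S' f)) S'' y hy hd
  haveI : q'.LiesOver y := IsLocalization.liesOver_map_of_isPrime_disjoint (Submonoid.powers (algebraMap A S' f)) S'' hd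
  refine ⟨q', inferInstance, ?_⟩
  haveI : Algebra.IsPushout A B A'' B'' := Algebra.IsPushout.symm inferInstance
  haveI : IsLocalization (Algebra.algebraMapSubmonoid B (Submonoid.powers f)) B'' :=
    (Algebra.isLocalization_iff_isPushout (Submonoid.powers f) A'').2 inferInstance
  refine congrArg PrimeSpectrum.asIdeal (PrimeSpectrum.localization_comap_injective B''
    (Algebra.algebraMapSubmonoid B (Submonoid.powers f))
    (a₁ := ⟨q'.comap (algebraMap B'' S''), inferInstance⟩) (a₂ := ⟨q, inferInstance⟩) (PrimeSpectrum.ext ?_))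
  show (q'.comap (algebraMap B'' S'')).comap (algebraMap B B'') = q.comap (algebraMap B B'')
  rw [Ideal.comap_comap, ← IsScalarTower.algebraMap_eq, IsScalarTower.algebraMap_eq B S' S'', ← Ideal.comap_comap,
    show q'.comap (algebraMap S' S'') = y from (q'.over_def y).symm, hyQ, Ideal.under_def]

/-- Projectivity after localising the base at an element spreading the covering condition. -/
theorem projective_of_cover {A A'' B B'' S' S'' : Type u} [CommRing A] [CommRing A''] [CommRing B] [CommRing B''] [CommRing S']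
    [CommRing S''] [Algebra A A''] [Algebra A B] [Algebra A'' B''] [Algebra B B''] [Algebra A B''] [IsScalarTower A A'' B'']
    [IsScalarTower A B B''] [Algebra.IsPushout A A'' B B''] (f : A) [IsLocalization.Away f A'']
    [Algebra B S'] [Algebra A S'] [IsScalarTower A B S'] [Algebra S' S''] [Algebra B'' S''] [Algebra B S'']
    [IsScalarTower B S' S''] [IsScalarTower B B'' S''] [IsLocalization.Away (algebraMap A S' f) S'']
    [Algebra A'' S''] [IsScalarTower A'' B'' S''] [Module.Flat B'' S'']
    [Algebra.FiniteType A B] [Algebra.FiniteType A'' B'']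
    (N : Type u) [AddCommGroup N] [Module B N]
    {N'' : Type u} [AddCommGroup N''] [Module B'' N''] [Module B N''] [IsScalarTower B B'' N''] [Module A'' N'']
    [IsScalarTower A'' B'' N''] [Module A N] [IsScalarTower A B N] [Module.Finite B'' N''] [Module.Flat A'' N'']
    (φ : N →ₗ[B] N'') (hφ : IsBaseChange B'' φ)
    (h : ∀ (t : Ideal A) [t.IsPrime], f ∉ t → ∀ (Q : Ideal B) [Q.IsPrime], Q.LiesOver t →
      FlatCA.fiberIdeal t Q ∈ associatedPrimes (t.Fiber B) (FlatCA.fiberMod t B N) →
      ∃ y : Ideal S', y.IsPrime ∧ y.comap (algebraMap B S') = Q)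
    [Module.Projective A'' (S'' ⊗[B''] N'')] : Module.Projective A'' N'' :=
  projective_of_univInj (ProjPureLib.isCountablyGenerated A'' B'' N'') (MLProjLib.isMittagLeffler_of_projective _) _
    (FibAssLib.univInj_mk (R := A'') (S := B'') (N := N'') (S' := S'') fun t q _ _ _ hq =>
      exists_localized_cover f N φ hφ h t q hq)

/-- Associated points of fibres over generalisations specialise into the fibre of a pure module. -/
theorem exists_specialization_of_pure {A B A' BA NA : Type u} [CommRing A] [CommRing B] [Algebra A B] [CommRing A'] [CommRing BA]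
    [Algebra A A'] [Algebra B BA] [Algebra A' BA] [Algebra A BA] [IsScalarTower A B BA] [IsScalarTower A A' BA]
    [Algebra.IsPushout A B A' BA] (N : Type u) [AddCommGroup N] [Module B N] [AddCommGroup NA] [Module BA NA] [Module B NA]
    [IsScalarTower B BA NA] [Module A' NA] [IsScalarTower A' BA NA] {φ : N →ₗ[B] NA} (hφ : IsBaseChange BA φ)
    {p : Ideal A} [p.IsPrime] {p' : Ideal A'} [p'.IsPrime] (hA' : FlatCA.IsEtaleNhd A A' p p')
    (hpure : FlatCA.IsPureAlong A B N p) (t : Ideal A') [t.IsPrime] (ht : t ≤ p') (Q : Ideal BA) [Q.IsPrime] (hQt : Q.LiesOver t)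
    (hQ : FlatCA.fiberIdeal t Q ∈ associatedPrimes (t.Fiber BA) (FlatCA.fiberMod t BA NA)) :
    ∃ P' : Ideal BA, P'.IsPrime ∧ Q ≤ P' ∧ P'.LiesOver p' := by
  by_contra hcon
  push Not at hcon
  exact hpure A' BA NA φ t p' Q hA' ⟨inferInstance, hφ, ht, hA'.2.1, hQt, hQ, fun P' hP' hle => hcon P' hP' hle⟩

/-- A pure flat module of finite presentation is projective on an étale neighbourhood. -/
theorem exists_projective_of_pure {A B : Type u} [CommRing A] [CommRing B] [Algebra A B] [Algebra.FinitePresentation A B]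
    (N : Type u) [AddCommGroup N] [Module B N] [Module A N] [IsScalarTower A B N] [Module.FinitePresentation B N]
    [Module.Flat A N] (p : Ideal A) [p.IsPrime] (hpure : FlatCA.IsPureAlong A B N p) :
    ∃ (A' : Type u) (_ : CommRing A') (_ : Algebra A A') (p' : Ideal A') (_ : p'.IsPrime),
      FlatCA.IsEtaleNhd A A' p p' ∧ Module.Projective A' (A' ⊗[A] N) := by
  obtain ⟨R', S', _, _, _, _, _, _, _, _, p', hp', hR', hS', hcov, hproj⟩ :=
    DevLib.exists_projective_cover N p fun q _ _ => FibAssLib.flatAt_of_flat (R := A) (S := B) (N := N) q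
  haveI := hp'
  haveI := hS'
  obtain ⟨hR'e, hp'p, hres⟩ := id hR'
  haveI := hR'e
  haveI := hp'p
  let BA := R' ⊗[A] B
  let NA := BA ⊗[B] N
  letI : Algebra BA S' := (Algebra.TensorProduct.lift (IsScalarTower.toAlgHom A R' S') (IsScalarTower.toAlgHom A B S')
    fun _ _ => Commute.all _ _).toRingHom.toAlgebra
  haveI : IsScalarTower R' BA S' := IsScalarTower.of_algebraMap_eq (R := R') (S := BA) (A := S') fun r => by
    show _ = Algebra.TensorProduct.lift _ _ _ (r ⊗ₜ[A] (1 : B))
    simp
  haveI : IsScalarTower B BA S' := IsScalarTower.of_algebraMap_eq (R := B) (S := BA) (A := S') fun r => by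
    show _ = Algebra.TensorProduct.lift _ _ _ ((1 : R') ⊗ₜ[A] r)
    simp
  haveI : Algebra.Etale B BA := Algebra.Etale.of_equiv (Algebra.TensorProduct.commRight A B R')
  haveI : Algebra.Etale BA S' := Algebra.Etale.of_restrictScalars B BA S'
  haveI : Algebra.IsPushout A B R' BA := Algebra.IsPushout.symm inferInstance
  haveI : Module.FinitePresentation BA NA := inferInstance
  haveI : Algebra.FinitePresentation R' BA := inferInstance
  have hb := TensorProduct.isBaseChange B N BA
  obtain ⟨f, hf, hfcov⟩ := exists_spread (A := R') (B := BA) (S' := S') NA p'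
    (fun t _ ht Q _ hQt hQ => exists_specialization_of_pure N hb hR' hpure t ht Q hQt hQ)
    (fun P' _ hP' => by
      haveI := hP'
      have hq : (P'.comap (algebraMap B BA)).LiesOver p := ⟨by
        rw [Ideal.under_def, Ideal.comap_comap, ← IsScalarTower.algebraMap_eq, IsScalarTower.algebraMap_eq A R' BA,
          ← Ideal.comap_comap]
        exact (p'.over_def p).trans (congrArg (Ideal.comap (algebraMap A R')) (P'.over_def p'))⟩
      obtain ⟨y, hy, hyq, hyp⟩ := hcov _ hq
      haveI := hy
      haveI : (y.comap (algebraMap BA S')).LiesOver p' := ⟨by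
        rw [Ideal.under_def, Ideal.comap_comap, ← IsScalarTower.algebraMap_eq]
        exact hyp.over⟩
      refine ⟨y, hy, DevLib.eq_of_pushout (R := A) (A := R') (S := B) (DevissLib.fracMod_of_bijective p p' hres) _ P' ?_⟩
      rw [Ideal.comap_comap, ← IsScalarTower.algebraMap_eq, hyq])
  let A'' := Localization.Away f
  have hd : Disjoint (Submonoid.powers f : Set R') p' := (Ideal.disjoint_powers_iff_notMem f hp'.isRadical).2 hf
  let p'' : Ideal A'' := p'.map (algebraMap R' A'')
  haveI : p''.IsPrime := IsLocalization.isPrime_of_isPrime_disjoint (Submonoid.powers f) _ p' inferInstance hd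
  haveI : p''.LiesOver p' := IsLocalization.liesOver_map_of_isPrime_disjoint (Submonoid.powers f) _ hd
  refine ⟨A'', inferInstance, inferInstance, p'', inferInstance,
    DevLib.isEtaleNhd_trans hR' (DevLib.isEtaleNhd_away f p' hf p''), ?_⟩
  let B'' := A'' ⊗[R'] BA
  let N'' := B'' ⊗[BA] NA
  let S'' := A'' ⊗[R'] S'
  letI : Algebra B'' S'' :=
    (Algebra.TensorProduct.map (AlgHom.id A'' A'') (IsScalarTower.toAlgHom R' BA S')).toRingHom.toAlgebra
  letI : Algebra BA S'' := ((algebraMap S' S'').comp (algebraMap BA S')).toAlgebra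
  haveI : IsScalarTower BA S' S'' := .of_algebraMap_eq' rfl
  haveI : IsScalarTower BA B'' S'' := IsScalarTower.of_algebraMap_eq (R := BA) (S := B'') (A := S'') fun r => by
    show ((1 : A'') ⊗ₜ[R'] algebraMap BA S' r : S'') = Algebra.TensorProduct.map _ _ ((1 : A'') ⊗ₜ[R'] r)
    simp
  haveI : IsScalarTower A'' B'' S'' := IsScalarTower.of_algebraMap_eq (R := A'') (S := B'') (A := S'') fun r => by
    show (r ⊗ₜ[R'] (1 : S') : S'') = Algebra.TensorProduct.map _ _ (r ⊗ₜ[R'] (1 : BA))
    simp
  haveI : IsLocalization.Away (algebraMap R' S' f) S'' := by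
    haveI : Algebra.IsPushout R' S' A'' S'' := Algebra.IsPushout.symm inferInstance
    have h := (Algebra.isLocalization_iff_isPushout (Submonoid.powers f) A'' (T := S') (B := S'')).2 inferInstance
    rw [Algebra.algebraMapSubmonoid_powers] at h
    exact h
  haveI : Algebra.FiniteType R' BA := inferInstance
  haveI : Module.Flat R' NA := Module.Flat.of_linearEquiv (Algebra.IsPushout.cancelBaseChange A R' B BA N)
  let eN : N'' ≃ₗ[A''] A'' ⊗[R'] NA := Algebra.IsPushout.cancelBaseChange R' A'' BA B'' NA
  haveI : Module.Flat A'' N'' := Module.Flat.of_linearEquiv eN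
  haveI : Module.Flat S' S'' := IsLocalization.flat S'' (Submonoid.powers (algebraMap R' S' f))
  haveI : Module.Flat BA S'' := Module.Flat.trans BA S' S''
  haveI : Algebra.FinitePresentation A'' B'' := inferInstance
  haveI : Module.Flat B'' S'' := by
    haveI : Algebra.IsPushout R' BA A'' B'' := Algebra.IsPushout.symm inferInstance
    haveI : IsLocalization (Algebra.algebraMapSubmonoid BA (Submonoid.powers f)) B'' :=
      (Algebra.isLocalization_iff_isPushout (Submonoid.powers f) A'').2 inferInstance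
    exact (Module.flat_iff_of_isLocalization B'' (Algebra.algebraMapSubmonoid BA (Submonoid.powers f)) S'').2 inferInstance
  -- the target is projective
  letI : Algebra B S'' := ((algebraMap S' S'').comp (algebraMap B S')).toAlgebra
  haveI : IsScalarTower B S' S'' := .of_algebraMap_eq' rfl
  haveI : IsScalarTower B BA S'' := IsScalarTower.of_algebraMap_eq (R := B) (S := BA) (A := S'') fun r => by
    rw [IsScalarTower.algebraMap_apply B S' S'', IsScalarTower.algebraMap_apply B BA S',
      ← IsScalarTower.algebraMap_apply BA S' S'']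
  haveI : Module.Projective A'' (S'' ⊗[B] N) :=
    DevLib.projective_pullback (R₁ := R') (R' := A'') (S₁ := S') N (DevLib.projective_restrictScalars.2 hproj)
  let eM : S'' ⊗[B''] N'' ≃ₗ[A''] S'' ⊗[B] N :=
    ((AlgebraTensorModule.cancelBaseChange BA B'' S'' S'' NA).trans
      (AlgebraTensorModule.cancelBaseChange B BA S'' S'' N)).restrictScalars A''
  haveI : Module.Projective A'' (S'' ⊗[B''] N'') := Module.Projective.of_equiv eM.symm
  haveI : Module.Projective A'' N'' := by
    refine projective_of_cover (A := R') (A'' := A'') (B := BA) (B'' := B'') (S' := S') (S'' := S'') f NA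
      (N'' := N'') (TensorProduct.mk BA B'' NA 1) (TensorProduct.isBaseChange BA NA B'') ?_
    intro t _ hft Q _ hQl ha
    obtain ⟨y, hy1, hy2⟩ := hfcov t hft Q hQl (by with_reducible exact ha)
    exact ⟨y, hy1, hy2⟩
  let e₀ : NA ≃ₗ[R'] R' ⊗[A] N := Algebra.IsPushout.cancelBaseChange A R' B BA N
  exact Module.Projective.of_equiv
    ((eN.trans (LinearEquiv.baseChange R' A'' _ _ e₀)).trans (AlgebraTensorModule.cancelBaseChange A R' A'' A'' N))

end Groth.Agent.PureCritLib
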