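import Groth.Agent.PureCritLib.Descent
import Groth.Agent.DevLib.Descend
import Groth.Agent.RelAssLib.Fibre

/-!
# Purity from a covering by a pure flat algebra
-/

set_option autoImplicit false
set_option linter.style.haveILetI false
set_option backward.isDefEq.respectTransparency false
set_option backward.isDefEq.respectTransparency.types false
set_option maxHeartbeats 2000000
set_option synthInstance.maxHeartbeats 100000

universe u

open TensorProduct

noncomputable section

namespace Groth.Agent.PureCritLib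

attribute [local instance] Algebra.TensorProduct.rightAlgebra

/-- Over an associated point of a fibre, every point of a flat algebra generalises to an associated point. -/
theorem exists_ass_over {A B B' : Type u} [CommRing A] [CommRing B] [CommRing B'] [Algebra A B] [Algebra B B'] [Algebra A B']
    [IsScalarTower A B B'] [Algebra.FiniteType A B] [Algebra.FiniteType A B'] [Module.Flat B B']
    {N N' : Type u} [AddCommGroup N] [Module B N] [AddCommGroup N'] [Module B' N'] [Module B N'] [IsScalarTower B B' N']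
    (f : N →ₗ[B] N') (hf : IsBaseChange B' f) (p : Ideal A) [p.IsPrime] (y : Ideal B') [y.IsPrime]
    (q : Ideal B) [q.IsPrime] [q.LiesOver p] (hyq : y.comap (algebraMap B B') = q)
    (h : FlatCA.fiberIdeal p q ∈ associatedPrimes (p.Fiber B) (FlatCA.fiberMod p B N)) :
    ∃ (q' : Ideal B') (_ : q'.IsPrime) (_ : q'.LiesOver p), q' ≤ y ∧ q'.comap (algebraMap B B') = q ∧
      FlatCA.fiberIdeal p q' ∈ associatedPrimes (p.Fiber B') (FlatCA.fiberMod p B' N') := by
  let F := p.Fiber B
  let F' := p.Fiber B'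
  let ψ : F →+* F' :=
    (Algebra.TensorProduct.map (AlgHom.id A p.ResidueField) (IsScalarTower.toAlgHom A B B')).toRingHom
  have hψ : ∀ b : B, ψ (CAlgFib.ι p b) = CAlgFib.ι p (algebraMap B B' b) := fun b => by
    show Algebra.TensorProduct.map _ _ ((1 : p.ResidueField) ⊗ₜ[A] b) = (1 : p.ResidueField) ⊗ₜ[A] algebraMap B B' b
    simp
  letI : Algebra F F' := ψ.toAlgebra
  letI : Algebra B F' := ((CAlgFib.ι (S := B') p).comp (algebraMap B B')).toAlgebra
  haveI : IsScalarTower B B' F' := .of_algebraMap_eq fun _ => rfl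
  haveI : IsScalarTower B F F' := .of_algebraMap_eq fun b => (hψ b).symm
  haveI : IsScalarTower p.ResidueField F F' := IsScalarTower.of_algebraMap_eq (R := p.ResidueField) (S := F) (A := F') fun c => by
    show c ⊗ₜ[A] (1 : B') = Algebra.TensorProduct.map _ _ (c ⊗ₜ[A] (1 : B))
    simp
  haveI : Algebra.IsPushout A B p.ResidueField F := Algebra.IsPushout.symm inferInstance
  haveI : Algebra.IsPushout A B' p.ResidueField F' := Algebra.IsPushout.symm inferInstance
  haveI : Algebra.IsPushout A p.ResidueField B F := inferInstance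
  haveI : Algebra.IsPushout A p.ResidueField B' F' := inferInstance
  haveI : Algebra.IsPushout B F B' F' := Algebra.IsPushout.symm
    ((Algebra.IsPushout.comp_iff (R := A) (S := B) (R' := p.ResidueField) (S' := F) (T := B') (T' := F')).1 inferInstance)
  haveI : Module.Flat F F' := Module.Flat.of_linearEquiv (Algebra.IsPushout.equiv B F B' F').symm.toLinearEquiv
  haveI : IsNoetherianRing F' := FibAssLib.isNoetherianRing_fiber p
  haveI : IsNoetherianRing F := FibAssLib.isNoetherianRing_fiber p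
  letI : Module B (F' ⊗[B'] N') := TensorProduct.leftModule
  haveI : IsScalarTower B B' (F' ⊗[B'] N') := TensorProduct.isScalarTower_left
  haveI : IsScalarTower B F' (F' ⊗[B'] N') := TensorProduct.isScalarTower_left
  have hbc : IsBaseChange F' (((TensorProduct.mk B' F' N' 1).restrictScalars B).comp f) :=
    hf.comp (TensorProduct.isBaseChange B' N' F')
  let E : F' ⊗[F] (F ⊗[B] N) ≃ₗ[F'] F' ⊗[B'] N' :=
    (AlgebraTensorModule.cancelBaseChange B F F' F' N).trans hbc.equiv
  haveI hy : y.LiesOver p := ⟨by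
    rw [Ideal.under_def, IsScalarTower.algebraMap_eq A B B', ← Ideal.comap_comap, hyq]
    exact q.over_def p⟩
  obtain ⟨hQ, hQc⟩ := FibAssLib.fiberIdeal_spec p q
  obtain ⟨hY, hYc⟩ := FibAssLib.fiberIdeal_spec p y
  haveI := hY
  haveI := hQ
  have hcomap : (FlatCA.fiberIdeal p y).comap (algebraMap F F') = FlatCA.fiberIdeal p q := by
    refine (FibAssLib.eq_fiberIdeal_of_comap p ?_).symm
    rw [← hyq]
    ext b
    show ψ (CAlgFib.ι p b) ∈ FlatCA.fiberIdeal p y ↔ algebraMap B B' b ∈ y
    rw [hψ]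
    exact SetLike.ext_iff.mp hYc _
  obtain ⟨P, hP, hPle, hPQ⟩ := RelAssLib.exists_mem_le (M := F ⊗[B] N) (show FlatCA.fiberIdeal p q ∈
    associatedPrimes F (F ⊗[B] N) from h) (FlatCA.fiberIdeal p y) hcomap
  haveI := hP.1
  refine ⟨P.comap (CAlgFib.ι p), inferInstance, FibAssLib.comap_liesOver p P,
    (Ideal.comap_mono hPle).trans hYc.le, ?_, ?_⟩
  · ext b
    show CAlgFib.ι p (algebraMap B B' b) ∈ P ↔ b ∈ q
    rw [← hψ]
    exact (SetLike.ext_iff.mp hPQ (CAlgFib.ι p b)).trans (SetLike.ext_iff.mp hQc b)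
  · rw [FibAssLib.eq_fiberIdeal_of_comap p rfl]
    have := hP
    rw [LinearEquiv.AssociatedPrimes.eq E] at this
    exact this

/-- Impurities pull back to a flat algebra covering the associated points of the nearby fibres. -/
theorem impurity_of_cover {A B B' : Type u} [CommRing A] [CommRing B] [CommRing B'] [Algebra A B] [Algebra B B'] [Algebra A B']
    [IsScalarTower A B B'] [Algebra.FiniteType A B] [Algebra.FiniteType A B'] [Module.Flat B B']
    {N N' : Type u} [AddCommGroup N] [Module B N] [Module A N] [IsScalarTower A B N] [AddCommGroup N'] [Module B' N'] [Module B N']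
    [IsScalarTower B B' N'] [Module A N'] [IsScalarTower A B' N']
    (f : N →ₗ[B] N') (hf : IsBaseChange B' f) (p : Ideal A) [p.IsPrime]
    (hcov : ∀ (t : Ideal A) [t.IsPrime], t ≤ p → ∀ (Q : Ideal B) [Q.IsPrime], Q.LiesOver t →
      FlatCA.fiberIdeal t Q ∈ associatedPrimes (t.Fiber B) (FlatCA.fiberMod t B N) →
      ∃ Q' : Ideal B', Q'.IsPrime ∧ Q'.comap (algebraMap B B') = Q)
    {Qc : ∀ (A₂ : Type u) [CommRing A₂] [Algebra A A₂], Ideal A₂ → Prop} :
    FlatCA.HasImpurity A B N p Qc → FlatCA.HasImpurity A B' N' p Qc := by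
  rintro ⟨A₂, B₂, N₂, _, _, _, _, _, _, _, _, _, _, _, _, _, _, g, t', t, _, _, P, _, himp, hQA⟩
  obtain ⟨hpo, hbc, htt, htp, hPt, hass, hno⟩ := himp
  haveI := htp
  haveI := hPt
  haveI := hpo
  haveI : Algebra.FiniteType A₂ B₂ := PureLib.finiteType_pushout A B A₂ B₂ hpo
  let t₀ := t'.comap (algebraMap A A₂)
  haveI : t'.LiesOver t₀ := ⟨rfl⟩
  have ht₀ : t₀ ≤ p := (Ideal.comap_mono htt).trans ((t.over_def p).ge)
  let Q := P.comap (algebraMap B B₂)
  haveI hQ : Q.LiesOver t₀ := ⟨by
    show t'.comap (algebraMap A A₂) = (P.comap (algebraMap B B₂)).comap (algebraMap A B)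
    rw [Ideal.comap_comap, ← IsScalarTower.algebraMap_eq, IsScalarTower.algebraMap_eq A A₂ B₂, ← Ideal.comap_comap]
    exact congrArg _ (P.over_def t')⟩
  haveI : Algebra.IsPushout A A₂ B B₂ := Algebra.IsPushout.symm inferInstance
  obtain ⟨Q', hQ', hQ'Q⟩ := hcov t₀ ht₀ Q inferInstance ((RelAssLib.fibre_ass_baseChange g hbc t₀ t').2.1 P hass)
  -- the base change of the cover
  let B₂' := B' ⊗[B] B₂
  let N₂' := B₂' ⊗[B₂] N₂
  obtain ⟨Y, hYQ, hYP⟩ := WLocalLib.exists_prime_tensor (A := B) (B := B') (C := B₂) ⟨Q', hQ'⟩ ⟨P, inferInstance⟩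
    (PrimeSpectrum.ext hQ'Q)
  haveI : IsScalarTower B B₂ B₂' := inferInstance
  letI : Algebra A₂ B₂' := ((algebraMap B₂ B₂').comp (algebraMap A₂ B₂)).toAlgebra
  haveI : IsScalarTower A₂ B₂ B₂' := .of_algebraMap_eq' rfl
  haveI : IsScalarTower A A₂ B₂' := IsScalarTower.of_algebraMap_eq (R := A) (S := A₂) (A := B₂') fun a => by
    rw [IsScalarTower.algebraMap_apply A₂ B₂ B₂', ← IsScalarTower.algebraMap_apply A A₂ B₂, IsScalarTower.algebraMap_apply A B B₂,
      ← IsScalarTower.algebraMap_apply B B₂ B₂', IsScalarTower.algebraMap_apply B B' B₂',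
      ← IsScalarTower.algebraMap_apply A B B', ← IsScalarTower.algebraMap_apply A B' B₂']
  haveI : IsScalarTower A B B₂' := IsScalarTower.of_algebraMap_eq (R := A) (S := B) (A := B₂') fun a => by
    rw [IsScalarTower.algebraMap_apply B B' B₂', ← IsScalarTower.algebraMap_apply A B B', ← IsScalarTower.algebraMap_apply A B' B₂']
  haveI : IsScalarTower A B₂ B₂' := IsScalarTower.of_algebraMap_eq (R := A) (S := B₂) (A := B₂') fun a => by
    rw [IsScalarTower.algebraMap_apply A B B₂', IsScalarTower.algebraMap_apply B B₂ B₂', ← IsScalarTower.algebraMap_apply A B B₂]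
  haveI : Algebra.IsPushout B B₂ B' B₂' := Algebra.IsPushout.symm inferInstance
  haveI : Algebra.IsPushout A A₂ B' B₂' :=
    (Algebra.IsPushout.comp_iff (R := A) (S := B) (R' := A₂) (S' := B₂) (T := B') (T' := B₂')).2 inferInstance |>.symm
  haveI : Algebra.IsPushout A B' A₂ B₂' := Algebra.IsPushout.symm inferInstance
  haveI : Algebra.FiniteType A₂ B₂' := PureLib.finiteType_pushout A B' A₂ B₂' inferInstance
  haveI : Module.Flat B₂ B₂' := Module.Flat.of_linearEquiv (Algebra.TensorProduct.commRight B B₂ B').symm.toLinearEquiv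
  have hYB₂ : Y.asIdeal.comap (algebraMap B₂ B₂') = P := congrArg PrimeSpectrum.asIdeal hYP
  obtain ⟨y, hy, hyt, hyY, hyP, hyass⟩ := exists_ass_over (A := A₂) (B := B₂) (B' := B₂')
    (TensorProduct.mk B₂ B₂' N₂ 1) (TensorProduct.isBaseChange B₂ N₂ B₂') t' Y.asIdeal P hYB₂ hass
  -- purity upstairs
  haveI : IsScalarTower B B₂ N₂' := .of_algebraMap_smul fun b (m : N₂') => by
    rw [← algebraMap_smul B₂' (algebraMap B B₂ b) m, ← IsScalarTower.algebraMap_apply B B₂ B₂', algebraMap_smul]
  haveI : IsScalarTower B B' N₂' := .of_algebraMap_smul fun b (m : N₂') => by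
    rw [← algebraMap_smul B₂' (algebraMap B B' b) m, ← IsScalarTower.algebraMap_apply B B' B₂', algebraMap_smul]
  letI : Module A₂ N₂' := inferInstance
  let g' : N →ₗ[B] N₂' := ((TensorProduct.mk B₂ B₂' N₂ 1).restrictScalars B) ∘ₗ g
  have hg' : IsBaseChange B₂' g' := IsBaseChange.comp hbc (TensorProduct.isBaseChange B₂ N₂ B₂')
  let h := hf.lift g'
  have hh : IsBaseChange B₂' h := IsBaseChange.of_comp hf (by
    rwa [show (h.restrictScalars B) ∘ₗ f = g' from LinearMap.ext fun m => hf.lift_eq g' m])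
  refine ⟨A₂, B₂', N₂', inferInstance, inferInstance, inferInstance, inferInstance, inferInstance, inferInstance,
    inferInstance, inferInstance, inferInstance, inferInstance, inferInstance, inferInstance, inferInstance, inferInstance,
    h, t', t, inferInstance, inferInstance, y, hy,
    ⟨inferInstance, hh, htt, htp, hyt, hyass, fun P' _ hle hP't => ?_⟩, hQA⟩
  haveI := hP't
  refine hno (P'.comap (algebraMap B₂ B₂')) (hyP ▸ Ideal.comap_mono hle) ⟨?_⟩
  rw [Ideal.under_def, Ideal.comap_comap, ← IsScalarTower.algebraMap_eq]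
  exact P'.over_def t

/-- Purity descends along a flat algebra covering the associated points of the nearby fibres. -/
theorem pure_of_cover {A B B' : Type u} [CommRing A] [CommRing B] [CommRing B'] [Algebra A B] [Algebra B B'] [Algebra A B']
    [IsScalarTower A B B'] [Algebra.FiniteType A B] [Algebra.FiniteType A B'] [Module.Flat B B']
    {N N' : Type u} [AddCommGroup N] [Module B N] [Module A N] [IsScalarTower A B N] [AddCommGroup N'] [Module B' N'] [Module B N']
    [IsScalarTower B B' N'] [Module A N'] [IsScalarTower A B' N']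
    (f : N →ₗ[B] N') (hf : IsBaseChange B' f) (p : Ideal A) [p.IsPrime] (hpure : FlatCA.IsPureAlong A B' N' p)
    (hcov : ∀ (t : Ideal A) [t.IsPrime], t ≤ p → ∀ (Q : Ideal B) [Q.IsPrime], Q.LiesOver t →
      FlatCA.fiberIdeal t Q ∈ associatedPrimes (t.Fiber B) (FlatCA.fiberMod t B N) →
      ∃ Q' : Ideal B', Q'.IsPrime ∧ Q'.comap (algebraMap B B') = Q) :
    FlatCA.IsPureAlong A B N p := by
  intro A₂ B₂ N₂ _ _ _ _ _ _ _ _ _ _ _ _ _ _ g t' t _ _ P _ het himp
  obtain ⟨A₃, B₃, N₃, _, _, _, _, _, _, _, _, _, _, _, _, _, _, g₃, s', s, _, _, P₃, _, h, hs⟩ :=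
    impurity_of_cover f hf p hcov (Qc := fun A₂ _ _ t => ∃ _ : t.IsPrime, FlatCA.IsEtaleNhd A A₂ p t)
      ⟨A₂, B₂, N₂, _, _, _, _, _, _, _, _, _, _, _, _, _, _, g, t', t, _, _, P, _, himp, inferInstance, het⟩
  obtain ⟨_, hs⟩ := hs
  exact hpure A₃ B₃ N₃ g₃ s' s P₃ hs h

/-- Universal purity descends along a flat algebra covering the associated points of the nearby fibres. -/
theorem univPure_of_cover {A B B' : Type u} [CommRing A] [CommRing B] [CommRing B'] [Algebra A B] [Algebra B B'] [Algebra A B']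
    [IsScalarTower A B B'] [Algebra.FiniteType A B] [Algebra.FiniteType A B'] [Module.Flat B B']
    {N N' : Type u} [AddCommGroup N] [Module B N] [Module A N] [IsScalarTower A B N] [AddCommGroup N'] [Module B' N'] [Module B N']
    [IsScalarTower B B' N'] [Module A N'] [IsScalarTower A B' N']
    (f : N →ₗ[B] N') (hf : IsBaseChange B' f) (p : Ideal A) [p.IsPrime] (hpure : FlatCA.IsUnivPureAlong A B' N' p)
    (hcov : ∀ (t : Ideal A) [t.IsPrime], t ≤ p → ∀ (Q : Ideal B) [Q.IsPrime], Q.LiesOver t →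
      FlatCA.fiberIdeal t Q ∈ associatedPrimes (t.Fiber B) (FlatCA.fiberMod t B N) →
      ∃ Q' : Ideal B', Q'.IsPrime ∧ Q'.comap (algebraMap B B') = Q) :
    FlatCA.IsUnivPureAlong A B N p := by
  intro A₂ B₂ N₂ _ _ _ _ _ _ _ _ _ _ _ _ _ _ g t' t _ _ P _ himp
  obtain ⟨A₃, B₃, N₃, _, _, _, _, _, _, _, _, _, _, _, _, _, _, g₃, s', s, _, _, P₃, _, h, -⟩ :=
    impurity_of_cover f hf p hcov (Qc := fun _ _ _ _ => True)
      ⟨A₂, B₂, N₂, _, _, _, _, _, _, _, _, _, _, _, _, _, _, g, t', t, _, _, P, _, himp, trivial⟩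
  exact hpure A₃ B₃ N₃ g₃ s' s P₃ h

end Groth.Agent.PureCritLib
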