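import Groth.Prelude.Def_FlatCA
import Groth.Agent.DevLib.Local
import Groth.Agent.RelAssLib.Fibre
import Groth.Agent.PureLib.Basic
import Groth.Agent.WLocalLib.Strict

/-!
# Impurities pull back along flat local maps
-/

set_option autoImplicit false
set_option linter.style.haveILetI false
set_option backward.isDefEq.respectTransparency false
set_option backward.isDefEq.respectTransparency.types false
set_option maxHeartbeats 2000000
set_option synthInstance.maxHeartbeats 100000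

universe u

open TensorProduct

noncomputable section

namespace Groth.Agent.PureCritLib

attribute [local instance] Algebra.TensorProduct.rightAlgebra

/-- The tensor product of a flat local ring with a neighbourhood is flat over the neighbourhood at its points. -/
theorem flat_localization_tensor {A A' A₁ : Type u} [CommRing A] [CommRing A'] [CommRing A₁] [Algebra A A'] [Algebra A A₁]
    (p' : Ideal A') [p'.IsPrime] [Module.Flat A (Localization.AtPrime p')] (t : Ideal (A' ⊗[A] A₁)) [t.IsPrime] [t.LiesOver p'] :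
    Module.Flat A₁ (Localization.AtPrime t) := by
  let L := Localization.AtPrime p'
  let A₂ := A' ⊗[A] A₁
  let T := Localization.AtPrime t
  let X := L ⊗[A] A₁
  letI : Algebra A₂ X :=
    (Algebra.TensorProduct.map (IsScalarTower.toAlgHom A A' L) (AlgHom.id A A₁)).toRingHom.toAlgebra
  haveI : IsScalarTower A₁ A₂ X := IsScalarTower.of_algebraMap_eq (R := A₁) (S := A₂) (A := X) fun a => by
    show ((1 : L) ⊗ₜ[A] a : X) = Algebra.TensorProduct.map _ _ ((1 : A') ⊗ₜ[A] a)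
    simp
  haveI : IsScalarTower A' A₂ X := IsScalarTower.of_algebraMap_eq (R := A') (S := A₂) (A := X) fun a => by
    show (algebraMap A' L a ⊗ₜ[A] (1 : A₁) : X) = Algebra.TensorProduct.map _ _ (a ⊗ₜ[A] (1 : A₁))
    simp
  haveI : IsScalarTower A A₂ X := IsScalarTower.of_algebraMap_eq (R := A) (S := A₂) (A := X) fun a => by
    rw [IsScalarTower.algebraMap_apply A A' A₂, ← IsScalarTower.algebraMap_apply A' A₂ X, ← IsScalarTower.algebraMap_apply A A' X]
  haveI : Algebra.IsPushout A A' A₁ A₂ := inferInstance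
  haveI : Algebra.IsPushout A' L A₂ X :=
    (Algebra.IsPushout.comp_iff (R := A) (S := A') (R' := A₁) (S' := A₂) (T := L) (T' := X)).1 inferInstance
  haveI : Algebra.IsPushout A' A₂ L X := Algebra.IsPushout.symm inferInstance
  haveI : IsLocalization (Algebra.algebraMapSubmonoid A₂ p'.primeCompl) X :=
    (Algebra.isLocalization_iff_isPushout p'.primeCompl L).2 inferInstance
  have hu : ∀ y : Algebra.algebraMapSubmonoid A₂ p'.primeCompl, IsUnit (algebraMap A₂ T y) := by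
    rintro ⟨_, a, ha, rfl⟩
    exact IsLocalization.map_units T (⟨algebraMap A' A₂ a, fun hm => ha ((t.over_def p').ge hm)⟩ : t.primeCompl)
  letI : Algebra X T := (IsLocalization.lift (S := X) hu).toAlgebra
  haveI : IsScalarTower A₂ X T := .of_algebraMap_eq fun z => (IsLocalization.lift_eq hu z).symm
  haveI : IsScalarTower A₁ X T := IsScalarTower.of_algebraMap_eq (R := A₁) (S := X) (A := T) fun a => by
    rw [IsScalarTower.algebraMap_apply A₁ A₂ X, ← IsScalarTower.algebraMap_apply A₂ X T, ← IsScalarTower.algebraMap_apply A₁ A₂ T]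
  haveI : Module.Flat A₂ T := IsLocalization.flat _ t.primeCompl
  haveI : Module.Flat X T := (Module.flat_iff_of_isLocalization X (Algebra.algebraMapSubmonoid A₂ p'.primeCompl) T).2 inferInstance
  haveI : Module.Flat A₁ X := Module.Flat.of_linearEquiv (Algebra.TensorProduct.commRight A A₁ L).toLinearEquiv.symm
  exact Module.Flat.trans A₁ X T

/-- Associated points of a fibre lift along base change. -/
theorem exists_ass_lift {A₁ B₁ A₂ B₂ N₁ N₂ : Type u} [CommRing A₁] [CommRing B₁] [CommRing A₂] [CommRing B₂] [Algebra A₁ B₁]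
    [Algebra A₁ A₂] [Algebra A₂ B₂] [Algebra B₁ B₂] [Algebra A₁ B₂] [IsScalarTower A₁ A₂ B₂] [IsScalarTower A₁ B₁ B₂]
    [Algebra.IsPushout A₁ A₂ B₁ B₂] [Algebra.FiniteType A₁ B₁] [AddCommGroup N₁] [Module B₁ N₁] [Module A₁ N₁]
    [IsScalarTower A₁ B₁ N₁] [AddCommGroup N₂] [Module B₂ N₂] [Module B₁ N₂] [IsScalarTower B₁ B₂ N₂] [Module A₂ N₂]
    [IsScalarTower A₂ B₂ N₂] (φ : N₁ →ₗ[B₁] N₂) (hφ : IsBaseChange B₂ φ) (t' : Ideal A₁) [t'.IsPrime] (t₂' : Ideal A₂)
    [t₂'.IsPrime] [t₂'.LiesOver t'] (P : Ideal B₁) [P.IsPrime] [P.LiesOver t']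
    (hass : FlatCA.fiberIdeal t' P ∈ associatedPrimes (t'.Fiber B₁) (FlatCA.fiberMod t' B₁ N₁)) :
    ∃ (P₂ : Ideal B₂) (_ : P₂.IsPrime) (_ : P₂.LiesOver t₂'), P₂.under B₁ = P ∧
      FlatCA.fiberIdeal t₂' P₂ ∈ associatedPrimes (t₂'.Fiber B₂) (FlatCA.fiberMod t₂' B₂ N₂) := by
  haveI : Algebra.FiniteType A₂ B₂ := Algebra.FiniteType.equiv inferInstance (Algebra.IsPushout.equiv A₁ A₂ B₁ B₂)
  exact (RelAssLib.fibre_ass_baseChange φ hφ t' t₂').2.2 P hass

/-- An impurity pulls back to any ring with a chosen pair of points. -/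
theorem impurity_pullback_core {A B : Type u} [CommRing A] [CommRing B] [Algebra A B] [Algebra.FiniteType A B]
    (N : Type u) [AddCommGroup N] [Module B N] [Module.Finite B N] {p : Ideal A} [p.IsPrime]
    {A' B' N' : Type u} [CommRing A'] [CommRing B'] [Algebra A A'] [Algebra B B'] [Algebra A' B'] [Algebra A B']
    [IsScalarTower A B B'] [IsScalarTower A A' B'] [Algebra.IsPushout A B A' B']
    [AddCommGroup N'] [Module B' N'] [Module B N'] [IsScalarTower B B' N'] {f : N →ₗ[B] N'} (hf : IsBaseChange B' f)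
    {p' : Ideal A'} [p'.IsPrime] [p'.LiesOver p]
    {A₁ B₁ N₁ : Type u} [CommRing A₁] [CommRing B₁] [Algebra A A₁] [Algebra B B₁] [Algebra A₁ B₁] [Algebra A B₁]
    [IsScalarTower A B B₁] [IsScalarTower A A₁ B₁] [AddCommGroup N₁] [Module B₁ N₁] [Module B N₁] [IsScalarTower B B₁ N₁]
    [Module A₁ N₁] [IsScalarTower A₁ B₁ N₁] {g : N →ₗ[B] N₁} {t' t : Ideal A₁} [t'.IsPrime] [t.IsPrime]
    {P : Ideal B₁} [P.IsPrime] (himp : FlatCA.IsImpurity A B N p A₁ B₁ N₁ g t' t P)
    {A₂ : Type u} [CommRing A₂] [Algebra A A₂] [Algebra A' A₂] [Algebra A₁ A₂] [IsScalarTower A A' A₂] [IsScalarTower A A₁ A₂]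
    (t₂ : Ideal A₂) [t₂.IsPrime] [t₂.LiesOver p'] [t₂.LiesOver t] (t₂' : Ideal A₂) [t₂'.IsPrime] [t₂'.LiesOver t'] (hle : t₂' ≤ t₂) :
    FlatCA.HasImpurity A' B' N' p' (fun A'' _ _ t'' => ∃ e : A₂ ≃ₐ[A'] A'', t''.comap e.toRingHom = t₂) := by
  obtain ⟨hpo, hbc, htt, htp, hPt, hass, hno⟩ := himp
  haveI := htp
  haveI := hPt
  -- the base change
  let B₂ := A₂ ⊗[A₁] B₁
  let N₂ := B₂ ⊗[B₁] N₁
  letI : Algebra B B₂ := ((algebraMap B₁ B₂).comp (algebraMap B B₁)).toAlgebra
  haveI : IsScalarTower B B₁ B₂ := .of_algebraMap_eq' rfl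
  haveI : IsScalarTower A' A₂ B₂ := inferInstance
  haveI : IsScalarTower A A₂ B₂ := inferInstance
  haveI : IsScalarTower A B B₂ := IsScalarTower.of_algebraMap_eq (R := A) (S := B) (A := B₂) fun a => by
    rw [IsScalarTower.algebraMap_apply B B₁ B₂, ← IsScalarTower.algebraMap_apply A B B₁,
      IsScalarTower.algebraMap_apply A A₁ B₁, ← IsScalarTower.algebraMap_apply A₁ B₁ B₂,
      IsScalarTower.algebraMap_apply A₁ A₂ B₂, ← IsScalarTower.algebraMap_apply A A₁ A₂, ← IsScalarTower.algebraMap_apply A A₂ B₂]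
  haveI : IsScalarTower A A' B₂ := IsScalarTower.of_algebraMap_eq (R := A) (S := A') (A := B₂) fun a => by
    rw [IsScalarTower.algebraMap_apply A' A₂ B₂, ← IsScalarTower.algebraMap_apply A A' A₂, ← IsScalarTower.algebraMap_apply A A₂ B₂]
  haveI : Algebra.IsPushout A A' B B' := Algebra.IsPushout.symm inferInstance
  let τ : B' →ₐ[A] B₂ := Algebra.pushoutDesc B' (IsScalarTower.toAlgHom A A' B₂) (IsScalarTower.toAlgHom A B B₂)
    fun _ _ => Commute.all _ _
  letI : Algebra B' B₂ := τ.toRingHom.toAlgebra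
  haveI : IsScalarTower B B' B₂ := .of_algebraMap_eq fun b => by
    show _ = τ (algebraMap B B' b)
    rw [Algebra.pushoutDesc_right]
    rfl
  haveI : IsScalarTower A' B' B₂ := .of_algebraMap_eq fun b => by
    show _ = τ (algebraMap A' B' b)
    rw [Algebra.pushoutDesc_left]
    rfl
  -- pushouts
  haveI := hpo
  haveI : Algebra.IsPushout A A₁ B B₁ := Algebra.IsPushout.symm inferInstance
  haveI : IsScalarTower A B₁ B₂ := IsScalarTower.of_algebraMap_eq (R := A) (S := B₁) (A := B₂) fun a => by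
    rw [IsScalarTower.algebraMap_apply A B B₂, IsScalarTower.algebraMap_apply B B₁ B₂, ← IsScalarTower.algebraMap_apply A B B₁]
  haveI : Algebra.IsPushout A A₂ B B₂ :=
    (Algebra.IsPushout.comp_iff A A₁ B B₁ (T := A₂) (T' := B₂)).2 inferInstance
  haveI : Algebra.IsPushout A' A₂ B' B₂ :=
    (Algebra.IsPushout.comp_iff A A' B B' (T := A₂) (T' := B₂)).1 inferInstance
  haveI : Algebra.IsPushout A' B' A₂ B₂ := Algebra.IsPushout.symm inferInstance
  -- modules
  haveI : IsScalarTower B B₂ N₂ := inferInstance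
  haveI : IsScalarTower B B₁ N₂ := .of_algebraMap_smul fun b (m : N₂) => by
    rw [← algebraMap_smul B₂ (algebraMap B B₁ b) m, ← IsScalarTower.algebraMap_apply B B₁ B₂, algebraMap_smul]
  letI : Module B' N₂ := Module.compHom _ (algebraMap B' B₂)
  haveI : IsScalarTower B' B₂ N₂ := .of_algebraMap_smul fun _ _ => rfl
  haveI : IsScalarTower B B' N₂ := .of_algebraMap_smul fun b (m : N₂) => by
    show algebraMap B' B₂ (algebraMap B B' b) • m = b • m
    rw [← IsScalarTower.algebraMap_apply B B' B₂, algebraMap_smul]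
  letI : Module A₂ N₂ := inferInstance
  let g₂ : N →ₗ[B] N₂ := ((TensorProduct.mk B₁ B₂ N₁ 1).restrictScalars B) ∘ₗ g
  have hg₂ : IsBaseChange B₂ g₂ := IsBaseChange.comp hbc (TensorProduct.isBaseChange B₁ N₁ B₂)
  let h := hf.lift g₂
  have hh : IsBaseChange B₂ h := IsBaseChange.of_comp hf (by
    rwa [show (h.restrictScalars B) ∘ₗ f = g₂ from LinearMap.ext fun m => hf.lift_eq g₂ m])
  -- the associated point
  haveI : Algebra.FiniteType A₁ B₁ := PureLib.finiteType_pushout A B A₁ B₁ hpo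
  haveI : Algebra.IsPushout A₁ A₂ B₁ B₂ := inferInstance
  obtain ⟨P₂, hP₂, hP₂t, hP₂P, hP₂ass⟩ := exists_ass_lift (A₁ := A₁) (A₂ := A₂) (B₁ := B₁) (B₂ := B₂) (N₁ := N₁) (N₂ := N₂)
    (TensorProduct.mk B₁ B₂ N₁ 1) (TensorProduct.isBaseChange B₁ N₁ B₂) t' t₂' P hass
  refine ⟨A₂, B₂, N₂, inferInstance, inferInstance, inferInstance, inferInstance, inferInstance, inferInstance,
    inferInstance, inferInstance, inferInstance, inferInstance, inferInstance, inferInstance, inferInstance, inferInstance,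
    h, t₂', t₂, inferInstance, inferInstance, P₂, hP₂,
    ⟨inferInstance, hh, hle, inferInstance, hP₂t, hP₂ass, fun P' _ hPP' hP't => ?_⟩, AlgEquiv.refl, Ideal.comap_id _⟩
  haveI := hP't
  refine hno (P'.comap (algebraMap B₁ B₂)) (hP₂P ▸ Ideal.comap_mono hPP') ⟨?_⟩
  rw [Ideal.under_def, Ideal.comap_comap, ← IsScalarTower.algebraMap_eq, IsScalarTower.algebraMap_eq A₁ A₂ B₂, ← Ideal.comap_comap]
  exact (t₂.over_def t).trans (congrArg (Ideal.comap (algebraMap A₁ A₂)) (P'.over_def t₂))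

/-- An impurity pulls back along a map flat at the chosen point. -/
theorem impurity_pullback {A B : Type u} [CommRing A] [CommRing B] [Algebra A B] [Algebra.FiniteType A B]
    (N : Type u) [AddCommGroup N] [Module B N] [Module.Finite B N] {p : Ideal A} [p.IsPrime]
    {A' B' N' : Type u} [CommRing A'] [CommRing B'] [Algebra A A'] [Algebra B B'] [Algebra A' B'] [Algebra A B']
    [IsScalarTower A B B'] [IsScalarTower A A' B'] [Algebra.IsPushout A B A' B']
    [AddCommGroup N'] [Module B' N'] [Module B N'] [IsScalarTower B B' N'] {f : N →ₗ[B] N'} (hf : IsBaseChange B' f)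
    {p' : Ideal A'} [p'.IsPrime] [p'.LiesOver p]
    {A₁ B₁ N₁ : Type u} [CommRing A₁] [CommRing B₁] [Algebra A A₁] [Algebra B B₁] [Algebra A₁ B₁] [Algebra A B₁]
    [IsScalarTower A B B₁] [IsScalarTower A A₁ B₁] [AddCommGroup N₁] [Module B₁ N₁] [Module B N₁] [IsScalarTower B B₁ N₁]
    [Module A₁ N₁] [IsScalarTower A₁ B₁ N₁] {g : N →ₗ[B] N₁} {t' t : Ideal A₁} [t'.IsPrime] [t.IsPrime]
    {P : Ideal B₁} [P.IsPrime] (himp : FlatCA.IsImpurity A B N p A₁ B₁ N₁ g t' t P)
    (t₂ : Ideal (A' ⊗[A] A₁)) [t₂.IsPrime] [t₂.LiesOver p'] [t₂.LiesOver t]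
    [Module.Flat A₁ (Localization.AtPrime t₂)] :
    FlatCA.HasImpurity A' B' N' p' (fun A₂ _ _ t'' => ∃ e : (A' ⊗[A] A₁) ≃ₐ[A'] A₂, t''.comap e.toRingHom = t₂) := by
  obtain ⟨hpo, hbc, htt, htp, hPt, hass, hno⟩ := id himp
  haveI := htp
  haveI := hPt
  let A₂ := A' ⊗[A] A₁
  let T := Localization.AtPrime t₂
  -- going down to a point over `t'`
  obtain ⟨Q, hQle, hQ, hQt'⟩ : ∃ Q : Ideal T, Q ≤ IsLocalRing.maximalIdeal T ∧ Q.IsPrime ∧ Q.LiesOver t' := by
    haveI : (IsLocalRing.maximalIdeal T).LiesOver t := Ideal.LiesOver.trans (IsLocalRing.maximalIdeal T) t₂ t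
    exact Ideal.exists_ideal_le_liesOver_of_le (p := t') (q := t) (IsLocalRing.maximalIdeal T) htt
  haveI := hQ
  haveI := hQt'
  obtain ⟨t₂', ht₂'p, ht₂'t, hle⟩ : ∃ t₂' : Ideal A₂, t₂'.IsPrime ∧ t₂'.LiesOver t' ∧ t₂' ≤ t₂ :=
    ⟨Q.comap (algebraMap A₂ T), inferInstance, ⟨by
      rw [Ideal.under_def, Ideal.comap_comap, ← IsScalarTower.algebraMap_eq]
      exact Q.over_def t'⟩, (Ideal.comap_mono hQle).trans (((IsLocalRing.maximalIdeal T).over_def t₂).ge)⟩
  haveI := ht₂'p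
  haveI := ht₂'t
  exact impurity_pullback_core (A₂ := A' ⊗[A] A₁) N hf himp t₂ t₂' hle

/-- Purity descends along flat local maps. -/
theorem pure_descend {A B : Type u} [CommRing A] [CommRing B] [Algebra A B] [Algebra.FiniteType A B]
    (N : Type u) [AddCommGroup N] [Module B N] [Module.Finite B N] (p : Ideal A) [p.IsPrime]
    (A' B' N' : Type u) [CommRing A'] [CommRing B'] [Algebra A A'] [Algebra B B'] [Algebra A' B'] [Algebra A B']
    [IsScalarTower A B B'] [IsScalarTower A A' B'] [Algebra.IsPushout A B A' B']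
    [AddCommGroup N'] [Module B' N'] [Module B N'] [IsScalarTower B B' N'] (f : N →ₗ[B] N') (hf : IsBaseChange B' f)
    (p' : Ideal A') [p'.IsPrime] [p'.LiesOver p] [Module.Flat A (Localization.AtPrime p')] :
    (FlatCA.IsPureAlong A' B' N' p' → FlatCA.IsPureAlong A B N p) ∧
    (FlatCA.IsUnivPureAlong A' B' N' p' → FlatCA.IsUnivPureAlong A B N p) := by
  have key : ∀ (A₁ : Type u) [CommRing A₁] [Algebra A A₁] (t : Ideal A₁) [t.IsPrime] [t.LiesOver p],
      ∃ (t₂ : Ideal (A' ⊗[A] A₁)) (_ : t₂.IsPrime), t₂.LiesOver p' ∧ t₂.LiesOver t := by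
    intro A₁ _ _ t _ _
    obtain ⟨P, h1, h2⟩ := WLocalLib.exists_prime_tensor (A := A) (⟨p', inferInstance⟩ : PrimeSpectrum A')
      (⟨t, inferInstance⟩ : PrimeSpectrum A₁) (PrimeSpectrum.ext ((p'.over_def p).symm.trans (t.over_def p)))
    exact ⟨P.asIdeal, P.2, ⟨(congrArg PrimeSpectrum.asIdeal h1).symm⟩, ⟨(congrArg PrimeSpectrum.asIdeal h2).symm⟩⟩
  refine ⟨fun h A₁ B₁ N₁ _ _ _ _ _ _ _ _ _ _ _ _ _ _ g t' t _ _ P _ het himp => ?_,
    fun h A₁ B₁ N₁ _ _ _ _ _ _ _ _ _ _ _ _ _ _ g t' t _ _ P _ himp => ?_⟩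
  · haveI := himp.2.2.2.1
    obtain ⟨hA₁, _, hres⟩ := het
    haveI := hA₁
    obtain ⟨t₂, ht₂, hl, hr⟩ := key A₁ t
    haveI := hl
    haveI := hr
    haveI := flat_localization_tensor (A₁ := A₁) p' t₂
    obtain ⟨A₂, B₂, N₂, _, _, _, _, _, _, _, _, _, _, _, _, _, _, g₂, t₂', t₂'', _, _, P₂, _, himp₂, e, he⟩ :=
      impurity_pullback (p' := p') N hf himp t₂
    haveI : Algebra.Etale A' (A' ⊗[A] A₁) := inferInstance
    haveI : Algebra.Etale A' A₂ := Algebra.Etale.of_equiv e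
    haveI : Algebra.IsPushout A A₁ A' (A' ⊗[A] A₁) := Algebra.IsPushout.symm inferInstance
    have hfr := DevLib.fracMod_pushout (A := A) (B := A₁) (S := A') (C := A' ⊗[A] A₁) (P := p) (Q := t) (DevissLib.fracMod_of_bijective p t hres) p' t₂
    haveI := himp₂.2.2.2.1
    refine h A₂ B₂ N₂ g₂ t₂' t₂'' P₂ ⟨inferInstance, inferInstance, DevissLib.residue_bijective_of_frac p' t₂'' fun z => ?_⟩ himp₂
    obtain ⟨c, a, hc, hm⟩ := hfr (e.symm z)
    refine ⟨c, a, hc, ?_⟩
    have hm' : e (algebraMap A' _ c * e.symm z - algebraMap A' _ a) ∈ t₂'' := by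
      rw [← he] at hm
      exact hm
    rwa [map_sub, map_mul, AlgEquiv.apply_symm_apply, AlgEquiv.commutes, AlgEquiv.commutes] at hm'
  · haveI := himp.2.2.2.1
    obtain ⟨t₂, ht₂, hl, hr⟩ := key A₁ t
    haveI := hl
    haveI := hr
    haveI := flat_localization_tensor (A₁ := A₁) p' t₂
    obtain ⟨A₂, B₂, N₂, _, _, _, _, _, _, _, _, _, _, _, _, _, _, g₂, t₂', t₂'', _, _, P₂, _, himp₂, -⟩ :=
      impurity_pullback (p' := p') N hf himp t₂
    exact h A₂ B₂ N₂ g₂ t₂' t₂'' P₂ himp₂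

end Groth.Agent.PureCritLib
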