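import Groth.Prelude.Def_FlatCA
import Groth.Agent.DevissLib.Basis

/-!
# Modules with a complete dévissage have all associated points of the fibre below the point
-/

set_option autoImplicit false
set_option linter.style.haveILetI false
set_option backward.isDefEq.respectTransparency false
set_option backward.isDefEq.respectTransparency.types false
set_option maxHeartbeats 1000000

universe u

open TensorProduct

noncomputable section

namespace Groth.Agent.PureCritLib

/-- Multiplication by an element off the generic point is injective on a generically injective map of fibres. -/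
theorem eq_zero_of_generic {R B M : Type u} [CommRing R] (p : Ideal R) [p.IsPrime] [CommRing B] [Algebra R B]
    [AddCommGroup M] [Module B M] [Module R M] [IsScalarTower R B M] {r : ℕ} (α : (Fin r → B) →ₗ[B] M)
    [(p.map (algebraMap R B)).IsPrime] [(p.map (algebraMap R B)).LiesOver p]
    (hα : Function.Injective (α.baseChange (p.map (algebraMap R B)).ResidueField))
    (b : B) (hb : b ∉ p.map (algebraMap R B)) (v : p.ResidueField ⊗[R] (Fin r → B))
    (hv : (α.restrictScalars R).lTensor p.ResidueField
      (((LinearMap.lsmul B (Fin r → B) b).restrictScalars R).lTensor p.ResidueField v) = 0) : v = 0 := by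
  classical
  let P := p.map (algebraMap R B)
  let K := P.ResidueField
  let γ : p.ResidueField →ₐ[R] K := Ideal.ResidueField.mapₐ p P (Algebra.ofId R B) (P.over_def p)
  let θ : p.ResidueField ⊗[R] (Fin r → B) →ₗ[R] K ⊗[B] (Fin r → B) := TensorProduct.lift
    (((TensorProduct.mk B K (Fin r → B)).restrictScalars₁₂ R R) ∘ₗ γ.toLinearMap)
  let θM : p.ResidueField ⊗[R] M →ₗ[R] K ⊗[B] M := TensorProduct.lift
    (((TensorProduct.mk B K M).restrictScalars₁₂ R R) ∘ₗ γ.toLinearMap)
  have hnat : ∀ z, θM ((α.restrictScalars R).lTensor p.ResidueField z) = α.baseChange K (θ z) := fun z => by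
    induction z using TensorProduct.induction_on with
    | zero => simp
    | tmul c x => simp [θ, θM]
    | add a c ha hc => simp only [map_add, ha, hc]
  have hsmul : ∀ z, θ (((LinearMap.lsmul B (Fin r → B) b).restrictScalars R).lTensor p.ResidueField z) =
      algebraMap B K b • θ z := fun z => by
    induction z using TensorProduct.induction_on with
    | zero => simp
    | tmul c x =>
      rw [algebraMap_smul, LinearMap.lTensor_tmul]
      exact TensorProduct.tmul_smul b _ x
    | add a c ha hc => simp only [map_add, smul_add, ha, hc]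
  -- components
  let φ : p.ResidueField ⊗[R] B →ₐ[R] K :=
    Algebra.TensorProduct.lift γ (IsScalarTower.toAlgHom R B K) fun _ _ => Commute.all _ _
  have hφ : ∀ w : p.Fiber B, φ w = 0 → w = 0 := fun w hw => by
    obtain ⟨a, ha, s, hs⟩ := CAlgFib.exists_factor (S := B) p w
    have hsK : algebraMap B K s = 0 := by
      have h1 : φ (CAlgFib.ι (S := B) p s) = algebraMap B K s := by
        show φ ((1 : p.ResidueField) ⊗ₜ[R] s) = _
        simp [φ]
      rw [← h1, ← hs]
      show φ (_ * w) = 0
      rw [map_mul, hw, mul_zero]
    have hι : CAlgFib.ι (S := B) p s = 0 :=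
      (show p.map (algebraMap R B) ≤ RingHom.ker (CAlgFib.ι (S := B) p) from
        Ideal.map_le_iff_le_comap.2 fun x hx => CAlgFib.ι_eq_zero p hx) (Ideal.algebraMap_residueField_eq_zero.1 hsK)
    exact (CAlgFib.ι_isUnit (S := B) p ha).mul_right_eq_zero.1 (hs.trans hι)
  let e := TensorProduct.piRight R R p.ResidueField (fun _ : Fin r => B)
  let e' := TensorProduct.piScalarRight B K K (Fin r)
  have hcomp : ∀ z j, e' (θ z) j = φ (e z j) := fun z j => by
    induction z using TensorProduct.induction_on with
    | zero => simp
    | tmul c x =>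
      simp [θ, e, e', φ, Algebra.smul_def, mul_comm]
    | add a c ha hc => simp only [map_add, Pi.add_apply, ha, hc]
  have hθ : θ v = 0 := by
    have h1 : α.baseChange K (algebraMap B K b • θ v) = 0 := by
      rw [← hsmul, ← hnat, hv, map_zero]
    have h2 : algebraMap B K b • θ v = 0 := hα (h1.trans (map_zero _).symm)
    exact (isUnit_iff_ne_zero.2 fun h => hb (Ideal.algebraMap_residueField_eq_zero.1 h)).smul_eq_zero.1 h2
  apply e.injective
  rw [map_zero]
  funext j
  refine hφ _ ?_
  rw [← hcomp, hθ, map_zero, Pi.zero_apply]

/-- An element off the unique prime of a finite algebra over a prime has a multiple from outside the prime. -/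
theorem exists_multiple {B A : Type u} [CommRing B] [CommRing A] [Algebra B A] [Module.Finite B A] (P : Ideal B) [P.IsPrime]
    (Q : Ideal A) (huniq : ∀ (Q' : Ideal A) [Q'.IsPrime], Q'.LiesOver P → Q' = Q) (a : A) (ha : a ∉ Q) :
    ∃ (b : B) (c : A), b ∉ P ∧ algebraMap B A b = c * a := by
  haveI : Algebra.IsIntegral B A := Algebra.IsIntegral.of_finite B A
  by_contra hcon
  push Not at hcon
  have hle : (Ideal.span {a}).comap (algebraMap B A) ≤ P := fun b hb => by
    by_contra hbP
    obtain ⟨c, hc⟩ := Ideal.mem_span_singleton'.1 hb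
    exact hcon b c hbP hc.symm
  obtain ⟨Q', hQ'a, hQ', hQ'P⟩ := Ideal.exists_ideal_over_prime_of_isIntegral P (Ideal.span {a}) hle
  haveI := hQ'
  rw [huniq Q' ⟨hQ'P.symm⟩] at hQ'a
  exact ha (hQ'a (Ideal.mem_span_singleton_self a))

/-- Elements off the point of a complete dévissage act injectively on the fibre. -/
theorem injective_fibre_of_devissage {R S : Type u} [CommRing R] [CommRing S] [Algebra R S]
    {N : Type u} [AddCommGroup N] [Module S N] [Module R N] [IsScalarTower R S N] {p : Ideal R} [p.IsPrime]
    {q : Ideal S} [q.IsPrime] (D : FlatCA.CompleteDevissage R S N p) (E : FlatCA.CompleteDevissageAt R S N p q D)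
    (h : S) (hh : h ∉ q) :
    Function.Injective (((LinearMap.lsmul S N h).restrictScalars R).lTensor p.ResidueField) := by
  haveI := E.hqB
  haveI := E.hqA
  haveI : ∀ i, IsScalarTower R (D.A i) (D.M i) := fun i => IsScalarTower.of_algebraMap_smul fun r m => by
    rw [IsScalarTower.algebraMap_apply R (D.B i) (D.A i), algebraMap_smul, algebraMap_smul]
  haveI : IsScalarTower R S (D.M 0) := IsScalarTower.of_algebraMap_smul fun r m => by
    rw [← algebraMap_smul (D.A 0) (algebraMap R S r) m, ← IsScalarTower.algebraMap_apply R S (D.A 0), algebraMap_smul]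
  haveI : ∀ i, IsScalarTower R (D.B i) (D.M (i + 1)) := fun i => IsScalarTower.of_algebraMap_smul fun r m => by
    rw [← algebraMap_smul (D.A (i + 1)) (algebraMap R (D.B i) r) m, ← IsScalarTower.algebraMap_apply R (D.B i) (D.A (i + 1)),
      algebraMap_smul]
  have hrr : ∀ i, (p.map (algebraMap R (D.B i))) ≤ E.qB i ∧ (p.map (algebraMap R (D.B i))).LiesOver p := fun i => by
    have h1 : p.map (algebraMap R (D.B i)) ≤ E.qB i :=
      Ideal.map_le_iff_le_comap.2 (E.overB i).over.le
    exact ⟨h1, ⟨le_antisymm Ideal.le_comap_map ((Ideal.comap_mono h1).trans (E.overB i).over.ge)⟩⟩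
  have key : ∀ k i, i + k + 1 = D.n → ∀ a : D.A i, a ∉ E.qA i →
      ∀ x : p.ResidueField ⊗[R] D.M i, ((LinearMap.lsmul (D.A i) (D.M i) a).restrictScalars R).lTensor p.ResidueField x = 0 → x = 0 := by
    intro k
    induction k using Nat.strong_induction_on with
    | _ k ih =>
      intro i hi a ha x hx
      have hi0 : i < D.n := by omega
      haveI := D.finiteBA i hi0
      haveI := (hrr i).2
      obtain ⟨b, c, hb, hbc⟩ := exists_multiple (E.qB i) (E.qA i) (E.uniq i hi0) a ha
      have hxb : ((LinearMap.lsmul (D.B i) (D.M i) b).restrictScalars R).lTensor p.ResidueField x = 0 := by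
        have hcomp : (LinearMap.lsmul (D.B i) (D.M i) b).restrictScalars R =
            (LinearMap.lsmul (D.A i) (D.M i) c).restrictScalars R ∘ₗ (LinearMap.lsmul (D.A i) (D.M i) a).restrictScalars R :=
          LinearMap.ext fun m => by
            show b • m = c • a • m
            rw [← algebraMap_smul (D.A i) b m, hbc, mul_smul]
        rw [hcomp, LinearMap.lTensor_comp_apply, hx, map_zero]
      obtain ⟨v, hv⟩ : x ∈ Set.range (((D.α i).restrictScalars R).lTensor p.ResidueField) := by
        by_cases hi1 : i + 1 < D.n
        swap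
        · -- the last layer
          obtain rfl : i = D.n - 1 := by omega
          exact LinearMap.lTensor_surjective p.ResidueField (g := (D.α (D.n - 1)).restrictScalars R) D.cokerLast x
        · -- an inner layer
          let g : D.M i →ₗ[D.B i] D.M (i + 1) := (D.isoCoker i hi1).toLinearMap ∘ₗ (LinearMap.range (D.α i)).mkQ
          have hgs : Function.Surjective g :=
            (D.isoCoker i hi1).surjective.comp (LinearMap.range (D.α i)).mkQ_surjective
          have hex : Function.Exact ((D.α i).restrictScalars R) (g.restrictScalars R) := fun m => by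
            show g m = 0 ↔ m ∈ Set.range (D.α i)
            rw [← LinearMap.mem_ker, LinearMap.ker_comp, LinearEquiv.ker, Submodule.comap_bot, Submodule.ker_mkQ]
            rfl
          refine ((lTensor_exact p.ResidueField hex hgs) x).1 ?_
          have hbA : algebraMap (D.B i) (D.A (i + 1)) b ∉ E.qA (i + 1) := fun hm => hb ((E.qStep i hi1).le hm)
          refine ih (k - 1) (by omega) (i + 1) (by omega) _ hbA _ ?_
          have hnat : ((LinearMap.lsmul (D.A (i + 1)) (D.M (i + 1)) (algebraMap (D.B i) (D.A (i + 1)) b)).restrictScalars R) ∘ₗ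
              g.restrictScalars R = g.restrictScalars R ∘ₗ (LinearMap.lsmul (D.B i) (D.M i) b).restrictScalars R :=
            LinearMap.ext fun m => by
              show algebraMap (D.B i) (D.A (i + 1)) b • g m = g (b • m)
              rw [algebraMap_smul, map_smul]
          rw [← LinearMap.lTensor_comp_apply, hnat, LinearMap.lTensor_comp_apply, hxb, map_zero]
      subst hv
      have h0 : v = 0 := eq_zero_of_generic p (D.α i) (D.fibreIso i hi0).1 b (fun hm => hb ((hrr i).1 hm)) v (by
        rw [← LinearMap.lTensor_comp_apply] at hxb ⊢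
        rw [← hxb]
        congr 2
        exact LinearMap.ext fun m => (D.α i).map_smul b m)
      rw [h0, map_zero]
  obtain ⟨k, hk⟩ : ∃ k, 0 + k + 1 = D.n := ⟨D.n - 1, by have := D.pos; omega⟩
  refine (injective_iff_map_eq_zero _).2 fun x hx => ?_
  apply ((D.isoN.restrictScalars R).lTensor p.ResidueField).injective
  rw [map_zero]
  refine key k 0 hk (algebraMap S (D.A 0) h) (fun hm => hh (E.q0.le hm)) _ ?_
  have hnat : ((LinearMap.lsmul (D.A 0) (D.M 0) (algebraMap S (D.A 0) h)).restrictScalars R) ∘ₗ
      (D.isoN.restrictScalars R).toLinearMap = (D.isoN.restrictScalars R).toLinearMap ∘ₗ (LinearMap.lsmul S N h).restrictScalars R :=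
    LinearMap.ext fun m => by
      show algebraMap S (D.A 0) h • D.isoN m = D.isoN (h • m)
      rw [algebraMap_smul, map_smul]
  show ((LinearMap.lsmul (D.A 0) (D.M 0) (algebraMap S (D.A 0) h)).restrictScalars R).lTensor p.ResidueField
    ((D.isoN.restrictScalars R).toLinearMap.lTensor p.ResidueField x) = 0
  rw [← LinearMap.lTensor_comp_apply, hnat, LinearMap.lTensor_comp_apply, hx, map_zero]

end Groth.Agent.PureCritLib
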