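import Groth.Agent.Henselization.Basic
import Mathlib.RingTheory.Unramified.LocalStructure
import Mathlib.RingTheory.QuasiFinite.Basic

/-!
# Finitely many elements of a henselization come from a quasi-finite algebra
-/

set_option autoImplicit false
set_option linter.style.haveILetI false
set_option backward.isDefEq.respectTransparency false
set_option backward.isDefEq.respectTransparency.types false
set_option maxHeartbeats 1000000

universe u

noncomputable section

namespace Groth.Agent.PureCritLib

open IsLocalRing

/-- Finitely many elements of a local, essentially finite type, quasi-finite algebra lie in a finite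
type subalgebra which is quasi-finite at the point. -/
theorem exists_subalgebra_quasiFiniteAt (A L : Type u) [CommRing A] [CommRing L] [Algebra A L] [IsLocalRing L]
    [Algebra.EssFiniteType A L] [Algebra.QuasiFinite A L] (F : Finset L) :
    ∃ A₀ : Subalgebra A L, (F : Set L) ⊆ A₀ ∧ Algebra.FiniteType A A₀ ∧
      Algebra.QuasiFiniteAt A ((maximalIdeal L).comap A₀.val.toRingHom) := by
  classical
  obtain ⟨σ, hσ⟩ := (Algebra.essFiniteType_iff A L).1 inferInstance
  let A₀ := Algebra.adjoin A ((σ ∪ F : Finset L) : Set L)
  have hle : Algebra.adjoin A (σ : Set L) ≤ A₀ := Algebra.adjoin_mono (by simp)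
  refine ⟨A₀, fun x hx => Algebra.subset_adjoin (by simp [show x ∈ F from hx]),
    (Subalgebra.fg_iff_finiteType _).1 (Subalgebra.fg_adjoin_finset _), ?_⟩
  let t₀ := (maximalIdeal L).comap A₀.val.toRingHom
  haveI : IsLocalization.AtPrime L t₀ := by
    refine { map_units := fun y => ?_, surj := fun z => ?_, exists_of_eq := fun {x y} h => ⟨1, ?_⟩ }
    · exact (not_not.1 fun h => y.2 ((mem_maximalIdeal _).2 h) :)
    · obtain ⟨s, hs, hu, hzs⟩ := hσ z
      exact ⟨⟨⟨z * s, hle hzs⟩, ⟨⟨s, hle hs⟩, fun h => (mem_maximalIdeal _).1 h hu⟩⟩, rfl⟩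
    · rw [Subtype.ext (show (x : L) = y from h)]
  exact Algebra.QuasiFinite.of_surjective_algHom
    ((IsLocalization.algEquiv t₀.primeCompl (Localization.AtPrime t₀) L).symm.toAlgHom.restrictScalars A)
    (IsLocalization.algEquiv t₀.primeCompl (Localization.AtPrime t₀) L).symm.surjective

end Groth.Agent.PureCritLib
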