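import Groth.Prelude.Def_FlatCA
import Groth.Agent.PureLib.Basic
import Groth.Agent.RelAssLib.Fibre

/-!
# Impurities descend to rings containing finitely many elements
-/

set_option autoImplicit false
set_option linter.style.haveILetI false
set_option backward.isDefEq.respectTransparency false
set_option backward.isDefEq.respectTransparency.types false
set_option maxHeartbeats 1000000
set_option synthInstance.maxHeartbeats 100000

universe u

open TensorProduct

noncomputable section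

namespace Groth.Agent.PureCritLib

attribute [local instance] Algebra.TensorProduct.rightAlgebra

variable {A B A' B' : Type u} [CommRing A] [CommRing B] [Algebra A B] [CommRing A'] [CommRing B'] [Algebra A A']
  [Algebra B B'] [Algebra A' B'] [Algebra A B'] [IsScalarTower A B B'] [IsScalarTower A A' B']

/-- The map of base changes induced by a map of base rings. -/
def tensorTo {A₀ : Type u} [CommRing A₀] [Algebra A A₀] (φ : A₀ →ₐ[A] A') : A₀ ⊗[A] B →ₐ[A] B' :=
  Algebra.TensorProduct.lift ((IsScalarTower.toAlgHom A A' B').comp φ) (IsScalarTower.toAlgHom A B B')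
    fun _ _ => Commute.all _ _

theorem tensorTo_tmul {A₀ : Type u} [CommRing A₀] [Algebra A A₀] (φ : A₀ →ₐ[A] A') (a : A₀) (b : B) :
    tensorTo (B' := B') φ (a ⊗ₜ[A] b) = algebraMap A' B' (φ a) * algebraMap B B' b := by
  simp [tensorTo]

/-- Every element of a base change comes from any ring containing finitely many elements. -/
theorem exists_finset_lift [Algebra.IsPushout A B A' B'] (b : B') :
    ∃ F : Finset A', ∀ (A₀ : Type u) [CommRing A₀] [Algebra A A₀] (φ : A₀ →ₐ[A] A'),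
      (F : Set A') ⊆ Set.range φ → ∃ b₀, tensorTo (B := B) (B' := B') φ b₀ = b := by
  classical
  haveI : Algebra.IsPushout A A' B B' := Algebra.IsPushout.symm inferInstance
  obtain ⟨z, rfl⟩ := (Algebra.IsPushout.equiv A A' B B').surjective b
  induction z using TensorProduct.induction_on with
  | zero => exact ⟨∅, fun _ _ _ _ _ => ⟨0, by simp⟩⟩
  | tmul a c =>
    refine ⟨{a}, fun A₀ _ _ φ hF => ?_⟩
    obtain ⟨a₀, ha⟩ := hF (Finset.mem_coe.2 (Finset.mem_singleton_self a))
    exact ⟨a₀ ⊗ₜ c, by rw [tensorTo_tmul, ha, Algebra.IsPushout.equiv_tmul]⟩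
  | add u v hu hv =>
    obtain ⟨F, hF⟩ := hu
    obtain ⟨G, hG⟩ := hv
    refine ⟨F ∪ G, fun A₀ _ _ φ h => ?_⟩
    rw [Finset.coe_union] at h
    obtain ⟨x, hx⟩ := hF A₀ φ (Set.subset_union_left.trans h)
    obtain ⟨y, hy⟩ := hG A₀ φ (Set.subset_union_right.trans h)
    exact ⟨x + y, by rw [map_add, map_add, hx, hy]⟩

/-- An impurity descends to every ring containing suitable finitely many elements. -/
theorem impurity_descend [Algebra.FiniteType A B] {N N' : Type u} [AddCommGroup N] [Module B N] [Module.Finite B N]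
    [AddCommGroup N'] [Module B' N'] [Module B N'] [IsScalarTower B B' N'] [Module A' N'] [IsScalarTower A' B' N']
    {f : N →ₗ[B] N'} {p : Ideal A} [p.IsPrime] {t' t : Ideal A'} [t'.IsPrime] [t.IsPrime] {P : Ideal B'} [P.IsPrime]
    (himp : FlatCA.IsImpurity A B N p A' B' N' f t' t P) :
    ∃ F : Finset A', ∀ (A₀ : Type u) [CommRing A₀] [Algebra A A₀] (φ : A₀ →ₐ[A] A'), (F : Set A') ⊆ Set.range φ →
      ∃ s₀ : A₀, φ s₀ ∉ t ∧ ∀ (t₀ : Ideal A₀) [t₀.IsPrime], t.comap φ.toRingHom ≤ t₀ → t₀.LiesOver p → s₀ ∉ t₀ →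
        ∀ (Qc : ∀ (A'' : Type u) [CommRing A''] [Algebra A A''], Ideal A'' → Prop), Qc A₀ t₀ →
          FlatCA.HasImpurity A B N p Qc := by
  classical
  obtain ⟨hpo, hbc, htt, htp, hPt, hass, hno⟩ := himp
  haveI := hpo
  haveI := hPt
  obtain ⟨s, hs, hsP⟩ := PureLib.exists_notMem_of_noSpec t P hno
  obtain ⟨π, hπ, τ, hτ, hsum⟩ := Submodule.mem_sup.1 hsP
  -- lifting the element of `tB'`
  obtain ⟨F, hF⟩ : ∃ F : Finset A', ∀ (A₀ : Type u) [CommRing A₀] [Algebra A A₀] (φ : A₀ →ₐ[A] A'),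
      (F : Set A') ⊆ Set.range φ → ∃ τ₀, tensorTo (B := B) (B' := B') φ τ₀ = τ ∧
        τ₀ ∈ (t.comap φ.toRingHom).map (algebraMap A₀ (A₀ ⊗[A] B)) := by
    clear hsum
    induction hτ using Submodule.span_induction with
    | mem x hx =>
      obtain ⟨a, ha, rfl⟩ := hx
      refine ⟨{a}, fun A₀ _ _ φ h => ?_⟩
      obtain ⟨a₀, ha₀⟩ := h (Finset.mem_coe.2 (Finset.mem_singleton_self a))
      refine ⟨a₀ ⊗ₜ (1 : B), by rw [tensorTo_tmul, ha₀, map_one, mul_one], ?_⟩
      exact Ideal.mem_map_of_mem _ (show φ a₀ ∈ t from ha₀ ▸ ha)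
    | zero => exact ⟨∅, fun _ _ _ _ _ => ⟨0, map_zero _, zero_mem _⟩⟩
    | add x y _ _ hx hy =>
      obtain ⟨F, hF⟩ := hx
      obtain ⟨G, hG⟩ := hy
      refine ⟨F ∪ G, fun A₀ _ _ φ h => ?_⟩
      rw [Finset.coe_union] at h
      obtain ⟨a, ha, ha'⟩ := hF A₀ φ (Set.subset_union_left.trans h)
      obtain ⟨c, hc, hc'⟩ := hG A₀ φ (Set.subset_union_right.trans h)
      exact ⟨a + c, by rw [map_add, ha, hc], add_mem ha' hc'⟩
    | smul r x _ hx =>
      obtain ⟨F, hF⟩ := hx
      obtain ⟨G, hG⟩ := exists_finset_lift (A := A) (B := B) (A' := A') r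
      refine ⟨F ∪ G, fun A₀ _ _ φ h => ?_⟩
      rw [Finset.coe_union] at h
      obtain ⟨a, ha, ha'⟩ := hF A₀ φ (Set.subset_union_left.trans h)
      obtain ⟨c, hc⟩ := hG A₀ φ (Set.subset_union_right.trans h)
      exact ⟨c * a, by rw [map_mul, hc, ha, smul_eq_mul], Ideal.mul_mem_left _ _ ha'⟩
  refine ⟨insert s F, fun A₀ _ _ φ h => ?_⟩
  rw [Finset.coe_insert, Set.insert_subset_iff] at h
  obtain ⟨⟨s₀, hs₀⟩, hFφ⟩ := h
  obtain ⟨τ₀, hτ₀, hτ₀'⟩ := hF A₀ φ hFφ
  refine ⟨s₀, hs₀ ▸ hs, fun t₀ _ ht₀ ht₀p hst₀ Qc hQc => ?_⟩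
  haveI := ht₀p
  -- the data at the smaller ring
  let B₀ := A₀ ⊗[A] B
  let N₀ := B₀ ⊗[B] N
  letI : Algebra A₀ A' := φ.toRingHom.toAlgebra
  haveI : IsScalarTower A A₀ A' := .of_algebraMap_eq fun a => (φ.commutes a).symm
  let Φ := tensorTo (B := B) (B' := B') φ
  letI : Algebra B₀ B' := Φ.toRingHom.toAlgebra
  letI : Algebra A₀ B' := ((algebraMap A' B').comp (algebraMap A₀ A')).toAlgebra
  haveI : IsScalarTower A₀ A' B' := .of_algebraMap_eq' rfl
  haveI : IsScalarTower A₀ B₀ B' := IsScalarTower.of_algebraMap_eq (R := A₀) (S := B₀) (A := B') fun a => by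
    show algebraMap A' B' (φ a) = Φ (a ⊗ₜ[A] (1 : B))
    rw [tensorTo_tmul, map_one, mul_one]
  haveI : IsScalarTower B B₀ B' := IsScalarTower.of_algebraMap_eq (R := B) (S := B₀) (A := B') fun b => by
    show algebraMap B B' b = Φ ((1 : A₀) ⊗ₜ[A] b)
    rw [tensorTo_tmul, map_one, map_one, one_mul]
  haveI : IsScalarTower A B₀ B' := .of_algebraMap_eq fun a => (Φ.commutes a).symm
  haveI : Algebra.IsPushout A A' B B' := Algebra.IsPushout.symm inferInstance
  haveI : Algebra.IsPushout A₀ A' B₀ B' :=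
    (Algebra.IsPushout.comp_iff (R := A) (S := A₀) (R' := B) (S' := B₀) (T := A') (T' := B')).1 inferInstance
  letI : Module B₀ N' := Module.compHom _ (algebraMap B₀ B')
  haveI : IsScalarTower B₀ B' N' := .of_algebraMap_smul fun _ _ => rfl
  haveI : IsScalarTower B B₀ N' := .of_algebraMap_smul fun b (m : N') => by
    show algebraMap B₀ B' (algebraMap B B₀ b) • m = b • m
    rw [← IsScalarTower.algebraMap_apply B B₀ B', algebraMap_smul]
  let g := TensorProduct.mk B B₀ N 1
  have hg : IsBaseChange B₀ g := TensorProduct.isBaseChange B N B₀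
  let h₀ := hg.lift f
  have hh₀ : IsBaseChange B' h₀ := IsBaseChange.of_comp hg (by
    rwa [show (h₀.restrictScalars B) ∘ₗ g = f from LinearMap.ext fun m => hg.lift_eq f m])
  let t₀' := t'.comap (algebraMap A₀ A')
  haveI : t'.LiesOver t₀' := ⟨rfl⟩
  let P₀ := P.comap (algebraMap B₀ B')
  haveI hP₀ : P₀.LiesOver t₀' := ⟨by
    show t'.comap (algebraMap A₀ A') = (P.comap (algebraMap B₀ B')).comap (algebraMap A₀ B₀)
    rw [Ideal.comap_comap, ← IsScalarTower.algebraMap_eq, IsScalarTower.algebraMap_eq A₀ A' B', ← Ideal.comap_comap]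
    exact congrArg _ (P.over_def t')⟩
  haveI : Algebra.FiniteType A₀ B₀ := inferInstance
  haveI : Algebra.FiniteType A' B' := PureLib.finiteType_pushout A B A' B' hpo
  have hass₀ := (RelAssLib.fibre_ass_baseChange h₀ hh₀ t₀' t').2.1 P hass
  refine ⟨A₀, B₀, N₀, inferInstance, inferInstance, inferInstance, inferInstance, inferInstance, inferInstance,
    inferInstance, inferInstance, inferInstance, inferInstance, inferInstance, inferInstance, inferInstance, inferInstance,
    g, t₀', t₀, inferInstance, inferInstance, P₀, inferInstance,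
    ⟨Algebra.IsPushout.symm inferInstance, hg, (Ideal.comap_mono htt).trans ht₀, ht₀p, hP₀, hass₀,
      fun P' _ hle hP' => hst₀ ?_⟩, hQc⟩
  refine (hP'.over).ge ?_
  show algebraMap A₀ B₀ s₀ ∈ P'
  have h1 : algebraMap A₀ B₀ s₀ - τ₀ ∈ P₀ := by
    show Φ (algebraMap A₀ B₀ s₀ - τ₀) ∈ P
    rw [map_sub, hτ₀, show Φ (algebraMap A₀ B₀ s₀) = algebraMap A' B' s by
      show Φ (s₀ ⊗ₜ[A] (1 : B)) = _
      rw [tensorTo_tmul, map_one, mul_one, hs₀], ← hsum, add_sub_cancel_right]
    exact hπ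
  have h2 : τ₀ ∈ P' := Ideal.map_le_iff_le_comap.2 (fun a ha => hP'.over.le (ht₀ ha)) hτ₀'
  simpa using P'.add_mem (hle h1) h2

end Groth.Agent.PureCritLib
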