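import Groth.Prelude.Def_FlatCA
import Groth.Agent.PureLib.Basic
import Groth.Agent.RelAssLib.Fibre

/-!
# Pushing impurities forward along finite algebras
-/

set_option autoImplicit false
set_option linter.style.haveILetI false
set_option backward.isDefEq.respectTransparency false
set_option backward.isDefEq.respectTransparency.types false
set_option maxHeartbeats 1000000
set_option synthInstance.maxHeartbeats 100000

universe u

open TensorProduct

noncomputable section

namespace Groth.Agent.PureCritLib

attribute [local instance] Algebra.TensorProduct.rightAlgebra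

/-- An impurity over a finite algebra with a unique point over `p` gives one over the base itself. -/
theorem impurity_pushforward {A B A' B' : Type u} [CommRing A] [CommRing B] [Algebra A B] [Algebra.FiniteType A B]
    [CommRing A'] [CommRing B'] [Algebra A A'] [Algebra B B'] [Algebra A' B'] [Algebra A B'] [IsScalarTower A B B']
    [IsScalarTower A A' B'] [Module.Finite A A']
    (N : Type u) [AddCommGroup N] [Module B N] [Module A N] [IsScalarTower A B N] [Module.Finite B N]
    {N' : Type u} [AddCommGroup N'] [Module B' N'] [Module B N'] [IsScalarTower B B' N'] [Module A' N'] [IsScalarTower A' B' N']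
    {f : N →ₗ[B] N'} {p : Ideal A} [p.IsPrime] {t' t : Ideal A'} [t'.IsPrime] [t.IsPrime] {P : Ideal B'} [P.IsPrime]
    (himp : FlatCA.IsImpurity A B N p A' B' N' f t' t P)
    (huniq : ∀ (t₁ : Ideal A') [t₁.IsPrime], t₁.LiesOver p → t₁ = t) :
    ∃ (s : Ideal A) (_ : s.IsPrime) (Q : Ideal B) (_ : Q.IsPrime), s ≤ p ∧ Q.LiesOver s ∧
      FlatCA.fiberIdeal s Q ∈ associatedPrimes (s.Fiber B) (FlatCA.fiberMod s B N) ∧
      ∀ (Q' : Ideal B) [Q'.IsPrime], Q ≤ Q' → ¬ Q'.LiesOver p := by
  obtain ⟨hpo, hbc, htt, htp, hPt, hass, hno⟩ := himp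
  haveI := hpo
  haveI := htp
  haveI := hPt
  haveI : Algebra.IsPushout A A' B B' := Algebra.IsPushout.symm inferInstance
  haveI : Algebra.FiniteType A' B' := PureLib.finiteType_pushout A B A' B' hpo
  let s := t'.comap (algebraMap A A')
  haveI : t'.LiesOver s := ⟨rfl⟩
  let Q := P.comap (algebraMap B B')
  have hQ : Q.LiesOver s := ⟨by
    show t'.comap (algebraMap A A') = (P.comap (algebraMap B B')).comap (algebraMap A B)
    rw [Ideal.comap_comap, ← IsScalarTower.algebraMap_eq, IsScalarTower.algebraMap_eq A A' B', ← Ideal.comap_comap]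
    exact congrArg _ (P.over_def t')⟩
  refine ⟨s, inferInstance, Q, inferInstance, (Ideal.comap_mono htt).trans (t.over_def p).ge, hQ,
    (RelAssLib.fibre_ass_baseChange f hbc s t').2.1 P hass, fun Q' _ hQQ' hQ'p => ?_⟩
  haveI : Module.Finite B B' := Module.Finite.equiv (Algebra.IsPushout.equiv A B A' B').toLinearEquiv
  haveI : Algebra.IsIntegral B B' := Algebra.IsIntegral.of_finite B B'
  obtain ⟨P₃, hPP₃, hP₃, hP₃Q⟩ := Ideal.exists_ideal_over_prime_of_isIntegral Q' P hQQ'
  haveI := hP₃
  let t₃ := P₃.comap (algebraMap A' B')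
  have ht₃ : t₃ = t := huniq t₃ ⟨by
    show p = (P₃.comap (algebraMap A' B')).comap (algebraMap A A')
    rw [Ideal.comap_comap, ← IsScalarTower.algebraMap_eq, IsScalarTower.algebraMap_eq A B B', ← Ideal.comap_comap, hP₃Q]
    exact hQ'p.over⟩
  exact hno P₃ hPP₃ ⟨ht₃.symm⟩

/-- Quasi-finiteness at a point composes. -/
theorem quasiFiniteAt_trans {A A' A'' : Type u} [CommRing A] [CommRing A'] [CommRing A''] [Algebra A A'] [Algebra A' A'']
    [Algebra A A''] [IsScalarTower A A' A''] (p' : Ideal A') [p'.IsPrime] (t : Ideal A'') [t.IsPrime] [t.LiesOver p']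
    [Algebra.QuasiFiniteAt A p'] [Algebra.QuasiFiniteAt A' t] : Algebra.QuasiFiniteAt A t := by
  let L := Localization.AtPrime p'
  let T := Localization.AtPrime t
  letI : Algebra L T := (Localization.localRingHom p' t (algebraMap A' A'') (t.over_def p')).toAlgebra
  haveI : IsScalarTower A' L T := IsScalarTower.of_algebraMap_eq (R := A') (S := L) (A := T) fun s => by
    show _ = Localization.localRingHom p' t _ (t.over_def p') (algebraMap A' L s)
    rw [Localization.localRingHom_to_map, ← IsScalarTower.algebraMap_apply]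
  haveI : IsScalarTower A L T := IsScalarTower.of_algebraMap_eq (R := A) (S := L) (A := T) fun a => by
    rw [IsScalarTower.algebraMap_apply A A' L, ← IsScalarTower.algebraMap_apply A' L T,
      IsScalarTower.algebraMap_apply A A'' T, IsScalarTower.algebraMap_apply A A' A'', ← IsScalarTower.algebraMap_apply A' A'' T]
  haveI : Algebra.QuasiFinite L T := Algebra.QuasiFinite.of_restrictScalars A' L T
  exact Algebra.QuasiFinite.trans A L T

end Groth.Agent.PureCritLib
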