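import Groth.Agent.PureCritLib.Tools
import Groth.Agent.PureCritLib.Descent
import Groth.Agent.S9005
import Mathlib.RingTheory.ZariskisMainTheorem
import Mathlib.RingTheory.Ideal.KrullsHeightTheorem

/-!
# Impurities over Noetherian bases
-/

set_option autoImplicit false
set_option linter.style.haveILetI false
set_option backward.isDefEq.respectTransparency false
set_option backward.isDefEq.respectTransparency.types false
set_option maxHeartbeats 1000000
set_option synthInstance.maxHeartbeats 100000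

universe u

open TensorProduct

noncomputable section

namespace Groth.Agent.PureCritLib

attribute [local instance] Algebra.TensorProduct.rightAlgebra

/-- A point which is the only point of its fibre comparable with it is quasi-finite. -/
theorem quasiFiniteAt_of_fibre {A D : Type u} [CommRing A] [CommRing D] [Algebra A D] [Algebra.FiniteType A D]
    (t : Ideal D) [t.IsPrime]
    (h : ∀ r : Ideal D, r.IsPrime → r.under A = t.under A → (r ≤ t ∨ t ≤ r) → r = t) : Algebra.QuasiFiniteAt A t := by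
  let q : PrimeSpectrum D := ⟨t, inferInstance⟩
  refine Algebra.QuasiFiniteAt.of_isOpen_singleton_fiber q ?_
  let s := q.comap (algebraMap A D)
  let e := PrimeSpectrum.preimageHomeomorphFiber A D s
  rw [← e.isOpen_image, Set.image_singleton]
  haveI : IsNoetherianRing (s.asIdeal.Fiber D) := inferInstance
  haveI : IsJacobsonRing (s.asIdeal.Fiber D) := isJacobsonRing_of_finiteType (A := s.asIdeal.ResidueField)
  rw [(PrimeSpectrum.isOpen_singleton_tfae_of_isNoetherian_of_isJacobsonRing _).out 0 2 rfl rfl]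
  have hspec : ∀ x y, x ⤳ y → (e.symm x).1.asIdeal ≤ (e.symm y).1.asIdeal := fun x y hxy =>
    (PrimeSpectrum.le_iff_specializes _ _).2 ((subtype_specializes_iff _ _).1 (hxy.map e.symm.continuous))
  have huniq : ∀ y, ((e.symm y).1.asIdeal ≤ t ∨ t ≤ (e.symm y).1.asIdeal) → y = e ⟨q, rfl⟩ := fun y hy => by
    rw [← e.apply_symm_apply y]
    exact congrArg e (Subtype.ext (PrimeSpectrum.ext (h _ (e.symm y).1.isPrime (congrArg PrimeSpectrum.asIdeal (e.symm y).2) hy)))
  refine ⟨?_, fun x y hxy hy => ?_⟩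
  · rw [← closure_subset_iff_isClosed]
    intro y hy
    have h1 := hspec _ _ (specializes_iff_mem_closure.2 hy)
    rw [e.symm_apply_apply] at h1
    exact huniq y (Or.inr h1)
  · rw [Set.mem_singleton_iff] at hy ⊢
    have h1 := hspec _ _ hxy
    rw [hy, e.symm_apply_apply] at h1
    exact huniq _ (Or.inl h1)

/-- A prime just below `t` avoiding a given element. -/
theorem exists_prime_coheight_one {D : Type u} [CommRing D] [IsNoetherianRing D] [IsDomain D] (t : Ideal D) [t.IsPrime] {g : D}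
    (hg0 : g ≠ 0) (hgt : g ∈ t) (hmax : ∀ r : Ideal D, r.IsPrime → r ≤ t → r ≠ ⊥ → g ∈ r) :
    ∀ r : Ideal D, r.IsPrime → r ≤ t → r ≠ ⊥ → r = t := by
  intro r hr hrt hr0
  have key : t ∈ (Ideal.span {g}).minimalPrimes := by
    by_contra hnot
    obtain ⟨x, hxt, hx⟩ : ∃ x ∈ t, ∀ m ∈ (Ideal.span {g}).minimalPrimes, m ≤ t → x ∉ m := by
      by_contra hall
      push Not at hall
      have hfin := Ideal.finite_minimalPrimes_of_isNoetherianRing D (Ideal.span {g})
      have hsub : (t : Set D) ⊆ ⋃ m ∈ (↑hfin.toFinset : Set (Ideal D)), (m : Set D) := fun x hx => by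
        obtain ⟨m, hm, -, hxm⟩ := hall x hx
        exact Set.mem_biUnion (hfin.mem_toFinset.2 hm) hxm
      obtain ⟨m, hm, htm⟩ := (Ideal.subset_union_prime ⊥ ⊥ fun m hm _ _ => (hfin.mem_toFinset.1 hm).1.1).1 hsub
      obtain ⟨m', hm', hm't⟩ := Ideal.exists_minimalPrimes_le ((Ideal.span_singleton_le_iff_mem t).2 hgt)
      exact hnot (le_antisymm ((hfin.mem_toFinset.1 hm).2 hm'.1 (hm't.trans htm) |>.trans hm't) htm ▸ hfin.mem_toFinset.1 hm)
    obtain ⟨r', hr', hr't⟩ := Ideal.exists_minimalPrimes_le ((Ideal.span_singleton_le_iff_mem t).2 hxt)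
    haveI := hr'.1.1
    have hxr' : x ∈ r' := (Ideal.span_singleton_le_iff_mem _).1 hr'.1.2
    have hr'0 : r' ≠ ⊥ := fun h0 => by
      have : x = 0 := (Ideal.mem_bot).1 (h0 ▸ hxr')
      obtain ⟨m, hm, hmt⟩ := Ideal.exists_minimalPrimes_le ((Ideal.span_singleton_le_iff_mem t).2 hgt)
      exact hx m hm hmt (this ▸ m.zero_mem)
    obtain ⟨m, hm, hmr⟩ := Ideal.exists_minimalPrimes_le ((Ideal.span_singleton_le_iff_mem r').2 (hmax r' inferInstance hr't hr'0))
    haveI := hm.1.1
    have hmlt : m < r' := lt_of_le_of_ne hmr fun h => hx m hm (hmr.trans hr't) (h ▸ hxr')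
    have hm0 : m ≠ ⊥ := fun h0 => hg0 (Ideal.mem_bot.1 (h0 ▸ (Ideal.span_singleton_le_iff_mem _).1 hm.1.2))
    have h1 : (0 : ℕ∞) < m.height := pos_of_ne_zero fun h => hm0 (Ideal.height_eq_zero_iff_eq_bot.1 h)
    have h2 := Ideal.height_strict_mono_of_isPrime_of_isPrime hmlt
    have h3 := Ideal.height_le_one_of_isPrincipal_of_mem_minimalPrimes _ r' hr'
    exact absurd (lt_of_lt_of_le h2 h3) (not_lt.2 (Order.one_le_iff_pos.2 h1))
  exact le_antisymm hrt (key.2 ⟨hr, (Ideal.span_singleton_le_iff_mem r).2 (hmax r hr hrt hr0)⟩ hrt)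

/-- No impurity over a point `p` has its generic point over `p` as well. -/
theorem not_isImpurity_of_liesOver {A B A₁ B₁ N₁ : Type u} [CommRing A] [CommRing B] [Algebra A B] [Algebra.FiniteType A B]
    {N : Type u} [AddCommGroup N] [Module B N] [Module.Finite B N] {p : Ideal A} [p.IsPrime]
    [CommRing A₁] [CommRing B₁] [Algebra A A₁] [Algebra B B₁] [Algebra A₁ B₁] [Algebra A B₁] [IsScalarTower A B B₁]
    [IsScalarTower A A₁ B₁] [AddCommGroup N₁] [Module B₁ N₁] [Module B N₁] [IsScalarTower B B₁ N₁] [Module A₁ N₁]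
    [IsScalarTower A₁ B₁ N₁] {g : N →ₗ[B] N₁} {t' t : Ideal A₁} [t'.IsPrime] [t.IsPrime] [t'.LiesOver p]
    {P : Ideal B₁} [P.IsPrime] : ¬ FlatCA.IsImpurity A B N p A₁ B₁ N₁ g t' t P := by
  intro himp
  haveI := himp.2.2.2.1
  let K := p.ResidueField
  let A₂ := K ⊗[A] A₁
  let B' := K ⊗[A] B
  haveI : Algebra.IsPushout A B K B' := Algebra.IsPushout.symm inferInstance
  let F := PrimeSpectrum.preimageOrderIsoFiber A A₁ ⟨p, inferInstance⟩
  let x' : PrimeSpectrum.comap (algebraMap A A₁) ⁻¹' {⟨p, inferInstance⟩} :=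
    ⟨⟨t', inferInstance⟩, PrimeSpectrum.ext (t'.over_def p).symm⟩
  let x : PrimeSpectrum.comap (algebraMap A A₁) ⁻¹' {⟨p, inferInstance⟩} :=
    ⟨⟨t, inferInstance⟩, PrimeSpectrum.ext (t.over_def p).symm⟩
  let t₂ : Ideal A₂ := (F x).asIdeal
  let t₂' : Ideal A₂ := (F x').asIdeal
  haveI : t₂.LiesOver t := ⟨(congrArg (fun y => y.1.asIdeal) (F.symm_apply_apply x)).symm⟩
  haveI : t₂'.LiesOver t' := ⟨(congrArg (fun y => y.1.asIdeal) (F.symm_apply_apply x')).symm⟩
  haveI : (⊥ : Ideal K).IsPrime := Ideal.isPrime_bot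
  haveI : t₂.LiesOver (⊥ : Ideal K) := ⟨((Ideal.eq_bot_or_top _).resolve_right (Ideal.IsPrime.ne_top inferInstance)).symm⟩
  haveI : (⊥ : Ideal K).LiesOver p := ⟨by
    rw [Ideal.under_def, ← RingHom.ker_eq_comap_bot]
    exact (Ideal.ker_algebraMap_residueField p).symm⟩
  have hle : t₂' ≤ t₂ := F.monotone (show x' ≤ x from himp.2.2.1)
  let N' := B' ⊗[B] N
  obtain ⟨A₃, B₃, N₃, _, _, _, _, _, _, _, _, _, _, _, _, _, _, g₃, s', s, _, _, P₃, _, himp₃, -⟩ :=
    impurity_pullback_core (A' := K) (B' := B') (p' := (⊥ : Ideal K)) (A₂ := A₂) N (TensorProduct.isBaseChange B N B')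
      himp t₂ t₂' hle
  haveI : Module.Projective K N' := inferInstance
  exact S9005.result N' (⊥ : Ideal K) A₃ B₃ N₃ g₃ s' s P₃ himp₃

/-- Near an associated point of a fibre the fibres have associated points on its closure. -/
theorem exists_ass_general {A B N : Type u} [CommRing A] [IsNoetherianRing A] [CommRing B] [Algebra A B] [Algebra.FiniteType A B]
    [AddCommGroup N] [Module B N] [Module A N] [IsScalarTower A B N] [Module.Finite B N] (t' : Ideal A) [t'.IsPrime]
    (P : Ideal B) [P.IsPrime] [P.LiesOver t']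
    (hass : FlatCA.fiberIdeal t' P ∈ associatedPrimes (t'.Fiber B) (FlatCA.fiberMod t' B N)) :
    ∃ f : A, f ∉ t' ∧ ∀ (q : Ideal A) [q.IsPrime], t' ≤ q → f ∉ q → ∃ (Q : Ideal B) (_ : Q.IsPrime),
      P ≤ Q ∧ Q.LiesOver q ∧ FlatCA.fiberIdeal q Q ∈ associatedPrimes (q.Fiber B) (FlatCA.fiberMod q B N) := by
  classical
  haveI : IsNoetherianRing B := Algebra.FiniteType.isNoetherianRing A B
  haveI : Algebra.FinitePresentation A B := Algebra.FinitePresentation.of_finiteType.mp inferInstance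
  haveI : Module.FinitePresentation B N := Module.finitePresentation_of_finite B N
  obtain ⟨k, g, hg⟩ := Submodule.fg_iff_exists_fin_generating_family.1 (IsNoetherian.noetherian P)
  let E := {t : PrimeSpectrum A | ∀ P ∈ associatedPrimes (t.asIdeal.Fiber B) (FlatCA.fiberMod t.asIdeal B N),
      ∃ j, CAlgFib.ι t.asIdeal (g j) ∉ P}
  let π := Ideal.Quotient.mk t'
  have hE' : Topology.IsConstructible (PrimeSpectrum.comap π ⁻¹' Eᶜ) :=
    (isConstructible_assAvoid (A := A) N g).compl.preimage (PrimeSpectrum.continuous_comap π)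
      fun _ _ _ U _ _ => TopologicalSpace.NoetherianSpace.isCompact _
  obtain ⟨hPf, hPc⟩ := FibAssLib.fiberIdeal_spec t' P
  obtain ⟨f', hf', hmem⟩ := exists_basicOpen_subset hE' (⊥ : Ideal (A ⧸ t')) fun t ht => by
    have : PrimeSpectrum.comap π t = ⟨t', inferInstance⟩ := PrimeSpectrum.ext (by
      show t.asIdeal.comap π = t'
      rw [le_bot_iff.1 ht, ← RingHom.ker_eq_comap_bot, Ideal.mk_ker])
    show PrimeSpectrum.comap π t ∈ Eᶜ
    rw [this]
    intro hall
    obtain ⟨j, hj⟩ := hall _ hass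
    refine hj ?_
    have : g j ∈ P := hg.le (Submodule.subset_span ⟨j, rfl⟩)
    rwa [← hPc] at this
  obtain ⟨f, rfl⟩ := Ideal.Quotient.mk_surjective f'
  refine ⟨f, fun h => hf' (Ideal.mem_bot.2 (Ideal.Quotient.eq_zero_iff_mem.2 h)), fun q _ htq hfq => ?_⟩
  haveI : (q.map π).IsPrime := Ideal.map_isPrime_of_surjective Ideal.Quotient.mk_surjective (by rwa [Ideal.mk_ker])
  have hq : (q.map π).comap π = q := by
    rw [Ideal.comap_map_of_surjective π Ideal.Quotient.mk_surjective, ← RingHom.ker_eq_comap_bot, Ideal.mk_ker, sup_eq_left.2 htq]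
  have hnot : PrimeSpectrum.comap π ⟨q.map π, inferInstance⟩ ∈ Eᶜ :=
    hmem ⟨q.map π, inferInstance⟩ fun h => hfq (hq.le h)
  rw [show PrimeSpectrum.comap π ⟨q.map π, inferInstance⟩ = (⟨q, inferInstance⟩ : PrimeSpectrum A) from PrimeSpectrum.ext hq] at hnot
  simp only [E, Set.mem_compl_iff, Set.mem_setOf_eq, not_forall, not_exists, not_not] at hnot
  obtain ⟨Qf, hQf, hgQ⟩ := hnot
  haveI := hQf.1
  let F := PrimeSpectrum.preimageOrderIsoFiber A B ⟨q, inferInstance⟩
  let y := F.symm ⟨Qf, hQf.1⟩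
  haveI : y.1.asIdeal.LiesOver q := ⟨(congrArg PrimeSpectrum.asIdeal y.2).symm⟩
  have hyQ : y.1.asIdeal = Qf.comap (CAlgFib.ι q) := rfl
  refine ⟨y.1.asIdeal, y.1.isPrime, ?_, inferInstance, ?_⟩
  · rw [← hg, Submodule.span_le, Set.range_subset_iff]
    exact fun j => hgQ j
  · obtain ⟨hQp, hQc⟩ := FibAssLib.fiberIdeal_spec q y.1.asIdeal
    have : (⟨FlatCA.fiberIdeal q y.1.asIdeal, hQp⟩ : PrimeSpectrum _) = ⟨Qf, hQf.1⟩ :=
      F.symm.injective (Subtype.ext (PrimeSpectrum.ext (hQc.trans hyQ.symm)))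
    rw [show FlatCA.fiberIdeal q y.1.asIdeal = Qf from congrArg PrimeSpectrum.asIdeal this]
    exact hQf

end Groth.Agent.PureCritLib
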