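import Groth.Agent.PureCritLib.Tools
import Groth.Agent.DevLib.Descend
import Groth.Agent.KaplanskyLib.Free

/-!
# Projectivity on a basic open inside the image of a projective étale chart
-/

set_option autoImplicit false
set_option linter.style.haveILetI false
set_option backward.isDefEq.respectTransparency false
set_option backward.isDefEq.respectTransparency.types false
set_option maxHeartbeats 1000000

universe u

open TensorProduct

noncomputable section

namespace Groth.Agent.PureCritLib

attribute [local instance] Algebra.TensorProduct.rightAlgebra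

/-- An endomorphism of a free module over a local ring, injective on the closed fibre, is universally injective. -/
theorem injective_lTensor_of_residue {L F : Type u} [CommRing L] [IsLocalRing L] [AddCommGroup F] [Module L F]
    [Module.Free L F] (u : F →ₗ[L] F) (hu : Function.Injective (u.lTensor (IsLocalRing.ResidueField L)))
    (Q : Type u) [AddCommGroup Q] [Module L Q] : Function.Injective (u.lTensor Q) := by
  classical
  let ι := Module.Free.ChooseBasisIndex L F
  let e : F ≃ₗ[L] ι →₀ L := (Module.Free.chooseBasis L F).repr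
  let inc : ∀ s : Finset ι, (s →₀ L) →ₗ[L] F := fun s => e.symm.toLinearMap ∘ₗ Finsupp.lmapDomain L L (fun i : s => (i : ι))
  let prj : ∀ s : Finset ι, F →ₗ[L] (s →₀ L) := fun s =>
    Finsupp.lcomapDomain (fun i : s => (i : ι)) Subtype.val_injective ∘ₗ e.toLinearMap
  have hpi : ∀ (s : Finset ι) (y : s →₀ L), prj s (inc s y) = y := fun s y => by
    have h : e (inc s y) = Finsupp.mapDomain (fun i : s => (i : ι)) y := e.apply_symm_apply _
    show Finsupp.comapDomain _ (e (inc s y)) _ = y
    ext i
    rw [Finsupp.comapDomain_apply, h, Finsupp.mapDomain_apply Subtype.val_injective]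
  have hfix : ∀ (s : Finset ι) (x : F), (e x).support ⊆ s → inc s (prj s x) = x := fun s x hx => by
    apply e.injective
    show e (e.symm (Finsupp.mapDomain _ (Finsupp.comapDomain _ (e x) _))) = e x
    rw [LinearEquiv.apply_symm_apply]
    exact Finsupp.mapDomain_comapDomain _ Subtype.val_injective _ fun i hi => ⟨⟨i, hx hi⟩, rfl⟩
  clear_value inc prj
  have hrange : ∀ z : Q ⊗[L] F, ∃ s : Finset ι, ∀ s' : Finset ι, s ⊆ s' → (inc s' ∘ₗ prj s').lTensor Q z = z := fun z => by
    induction z using TensorProduct.induction_on with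
    | zero => exact ⟨∅, fun _ _ => map_zero _⟩
    | tmul q x => exact ⟨(e x).support, fun s' hs' => by
        rw [LinearMap.lTensor_tmul, LinearMap.comp_apply, hfix s' x hs']⟩
    | add a b ha hb =>
      obtain ⟨s, hs⟩ := ha
      obtain ⟨t, ht⟩ := hb
      exact ⟨s ∪ t, fun s' hs' => by
        rw [map_add, hs s' (Finset.union_subset_left hs'), ht s' (Finset.union_subset_right hs')]⟩
  refine (injective_iff_map_eq_zero _).2 fun z hz => ?_
  obtain ⟨s, hs⟩ := hrange z
  let t : Finset ι := Finset.univ.biUnion fun i : s => (e (u (inc s (Finsupp.single i 1)))).support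
  have hfact : inc t ∘ₗ prj t ∘ₗ u ∘ₗ inc s = u ∘ₗ inc s := Finsupp.lhom_ext' fun i => LinearMap.ext_ring (by
    show inc t (prj t (u (inc s (Finsupp.single i 1)))) = u (inc s (Finsupp.single i 1))
    exact hfix t _ (Finset.subset_biUnion_of_mem (fun i : s => (e (u (inc s (Finsupp.single i 1)))).support) (Finset.mem_univ i)))
  let w : (s →₀ L) →ₗ[L] (t →₀ L) := prj t ∘ₗ u ∘ₗ inc s
  have hw : Function.Injective (w.lTensor (IsLocalRing.ResidueField L)) := fun a b hab => by
    have h1 := congrArg ((inc t).lTensor (IsLocalRing.ResidueField L)) hab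
    rw [← LinearMap.lTensor_comp_apply, ← LinearMap.lTensor_comp_apply, show inc t ∘ₗ w = u ∘ₗ inc s from hfact,
      LinearMap.lTensor_comp_apply, LinearMap.lTensor_comp_apply] at h1
    have h2 := congrArg ((prj s).lTensor (IsLocalRing.ResidueField L)) (hu h1)
    rwa [← LinearMap.lTensor_comp_apply, ← LinearMap.lTensor_comp_apply, show prj s ∘ₗ inc s = LinearMap.id from
      LinearMap.ext (hpi s), LinearMap.lTensor_id, LinearMap.id_apply, LinearMap.id_apply] at h2
  obtain ⟨w', hw'⟩ := (IsLocalRing.split_injective_iff_lTensor_residueField_injective w).2 hw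
  have hr : (inc s ∘ₗ w' ∘ₗ prj t) ∘ₗ u ∘ₗ inc s = inc s := by
    show inc s ∘ₗ (w' ∘ₗ w) = inc s
    rw [hw', LinearMap.comp_id]
  have hz' := hs s subset_rfl
  calc z = (inc s ∘ₗ prj s).lTensor Q z := hz'.symm
    _ = (((inc s ∘ₗ w' ∘ₗ prj t) ∘ₗ u ∘ₗ inc s) ∘ₗ prj s).lTensor Q z := by rw [hr]
    _ = (inc s ∘ₗ w' ∘ₗ prj t).lTensor Q (u.lTensor Q ((inc s ∘ₗ prj s).lTensor Q z)) := by
      simp only [← LinearMap.lTensor_comp_apply, LinearMap.comp_assoc]
    _ = 0 := by rw [hz', hz, map_zero]

/-- Two base changes in a row of an endomorphism. -/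
theorem injective_lTensor_baseChange_iff {A L K M : Type u} [CommRing A] [CommRing L] [CommRing K] [Algebra A L] [Algebra L K]
    [Algebra A K] [IsScalarTower A L K] [AddCommGroup M] [Module A M] (φ : M →ₗ[A] M) :
    Function.Injective ((φ.baseChange L).lTensor K) ↔ Function.Injective (φ.baseChange K) := by
  let e := AlgebraTensorModule.cancelBaseChange A L K K M
  have key : ∀ z, e ((φ.baseChange L).lTensor K z) = φ.baseChange K (e z) := fun z => by
    induction z using TensorProduct.induction_on with
    | zero => simp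
    | add a b ha hb => simp only [map_add, ha, hb]
    | tmul k y =>
      induction y using TensorProduct.induction_on with
      | zero => simp
      | add a b ha hb => simp only [TensorProduct.tmul_add, map_add, ha, hb]
      | tmul l m => simp [e]
  have hc : ⇑e ∘ ⇑((φ.baseChange L).lTensor K) = ⇑(φ.baseChange K) ∘ ⇑e := funext key
  refine ⟨fun h => ?_, fun h => ?_⟩
  · exact (Function.Injective.of_comp_iff' (φ.baseChange K) e.bijective).1 (hc ▸ e.injective.comp h)
  · exact Function.Injective.of_comp (f := e) (hc ▸ h.comp e.injective)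

/-- An element avoids the associated points of a fibre exactly when it acts injectively on it. -/
theorem ass_avoid_iff {A S : Type u} [CommRing A] [CommRing S] [Algebra A S] [Algebra.FiniteType A S]
    (M : Type u) [AddCommGroup M] [Module S M] [Module A M] [IsScalarTower A S M] (g : S) (t : Ideal A) [t.IsPrime] :
    (∀ P ∈ associatedPrimes (t.Fiber S) (FlatCA.fiberMod t S M), CAlgFib.ι t g ∉ P) ↔
      Function.Injective (((LinearMap.lsmul S M g).restrictScalars A).baseChange t.ResidueField) := by
  let K := t.ResidueField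
  let e : (t.Fiber S) ⊗[S] M ≃ₗ[K] K ⊗[A] M := Algebra.IsPushout.cancelBaseChange A K S (t.Fiber S) M
  have he : ∀ (z : K ⊗[A] M), e.symm (((LinearMap.lsmul S M g).restrictScalars A).baseChange K z) =
      CAlgFib.ι t g • e.symm z := fun z => by
    induction z using TensorProduct.induction_on with
    | zero => simp
    | add u v hu hv => simp only [map_add, smul_add, hu, hv]
    | tmul c n =>
      rw [LinearMap.baseChange_tmul, show ∀ x : (t.Fiber S) ⊗[S] M, CAlgFib.ι t g • x = g • x from
        fun x => algebraMap_smul (t.Fiber S) g x]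
      show e.symm (c ⊗ₜ[A] (g • n)) = g • e.symm (c ⊗ₜ[A] n)
      have h1 : ∀ n : M, e.symm (c ⊗ₜ[A] n) = algebraMap K (t.Fiber S) c ⊗ₜ[S] n := fun n =>
        Algebra.IsPushout.cancelBaseChangeAux_symm_tmul A K S (t.Fiber S) M c n
      rw [h1, h1]
      exact TensorProduct.tmul_smul g _ n
  haveI : IsNoetherianRing (t.Fiber S) := inferInstance
  rw [injective_iff_map_eq_zero]
  constructor
  · intro h z hz
    by_contra hne
    obtain ⟨P, hP, hle⟩ := exists_le_isAssociatedPrime_of_isNoetherianRing (t.Fiber S) (e.symm z)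
      fun h0 => hne (e.symm.injective (h0.trans (map_zero _).symm))
    refine h P hP (hle ?_)
    rw [Submodule.mem_colon_singleton, Submodule.mem_bot, ← he, hz, map_zero]
  · intro h P hP hgP
    obtain ⟨hPp, y, hy⟩ := isAssociatedPrime_iff.1 hP
    rw [hy, Submodule.mem_colon_singleton, Submodule.mem_bot] at hgP
    have hy0 : y = 0 := e.injective ((h (e y) (e.symm.injective (by
      rw [he, LinearEquiv.symm_apply_apply, map_zero]
      exact hgP))).trans (map_zero e).symm)
    exact hPp.ne_top (by rw [hy, hy0, eq_top_iff]; intro x _; simp)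

/-- For a projective module, avoiding the associated points of a fibre spreads to all generalisations. -/
theorem avoid_generisation {A S : Type u} [CommRing A] [CommRing S] [Algebra A S] [Algebra.FiniteType A S]
    (M : Type u) [AddCommGroup M] [Module S M] [Module A M] [IsScalarTower A S M] [Module.Projective A M] (g : S)
    (p : Ideal A) [p.IsPrime] (hp : ∀ P ∈ associatedPrimes (p.Fiber S) (FlatCA.fiberMod p S M), CAlgFib.ι p g ∉ P)
    (t : Ideal A) [t.IsPrime] (ht : t ≤ p) :
    ∀ P ∈ associatedPrimes (t.Fiber S) (FlatCA.fiberMod t S M), CAlgFib.ι t g ∉ P := by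
  let L := Localization.AtPrime p
  let φ := (LinearMap.lsmul S M g).restrictScalars A
  haveI : Module.Free L (L ⊗[A] M) := KaplanskyLib.free_of_projective (L ⊗[A] M)
  haveI : IsScalarTower A L p.ResidueField := inferInstance
  have hres : Function.Injective ((φ.baseChange L).lTensor (IsLocalRing.ResidueField L)) :=
    (injective_lTensor_baseChange_iff φ).2 ((ass_avoid_iff M g p).1 hp)
  have hu : ∀ s : p.primeCompl, IsUnit (algebraMap A t.ResidueField s) := fun s =>
    isUnit_iff_ne_zero.2 fun h0 => s.2 (ht (Ideal.algebraMap_residueField_eq_zero.1 h0))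
  letI : Algebra L t.ResidueField := (IsLocalization.lift (S := L) hu).toAlgebra
  haveI : IsScalarTower A L t.ResidueField := .of_algebraMap_eq fun z => (IsLocalization.lift_eq hu z).symm
  exact (ass_avoid_iff M g t).2
    ((injective_lTensor_baseChange_iff φ).1 (injective_lTensor_of_residue (φ.baseChange L) hres t.ResidueField))

/-- Choosing a basic open around a point inside the image, avoiding the associated points of a fibre. -/
theorem exists_avoid {A SA C : Type u} [CommRing A] [CommRing SA] [CommRing C] [Algebra A SA] [Algebra A C] [Algebra SA C]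
    [IsScalarTower A SA C] [Algebra.FiniteType A C] [Module.Flat SA C] [Algebra.FinitePresentation SA C]
    (M : Type u) [AddCommGroup M] [Module C M] [Module A M] [IsScalarTower A C M] [Module.Finite C M]
    (p : Ideal A) [p.IsPrime] (x : Ideal SA) [x.IsPrime]
    (hx : ∃ y : Ideal C, y.IsPrime ∧ y.comap (algebraMap SA C) = x) :
    ∃ g : SA, g ∉ x ∧ (∀ Q : Ideal SA, Q.IsPrime → g ∉ Q → ∃ y : Ideal C, y.IsPrime ∧ y.comap (algebraMap SA C) = Q) ∧
      ∀ P ∈ associatedPrimes (p.Fiber C) (FlatCA.fiberMod p C M), CAlgFib.ι p (algebraMap SA C g) ∉ P := by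
  classical
  have hopen : IsOpen (Set.range (PrimeSpectrum.comap (algebraMap SA C))) :=
    PrimeSpectrum.isOpenMap_comap_of_hasGoingDown_of_finitePresentation.isOpen_range
  obtain ⟨T, hT⟩ := (PrimeSpectrum.isClosed_iff_zeroLocus _).1 hopen.isClosed_compl
  let J := Ideal.span T
  haveI := FibAssLib.finite_fiberMod p (S := C) M
  have hfin : (associatedPrimes (p.Fiber C) (FlatCA.fiberMod p C M)).Finite := associatedPrimes.finite _ _
  let s : Finset (Option (Ideal (p.Fiber C))) := insert none (hfin.toFinset.image some)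
  let F : Option (Ideal (p.Fiber C)) → Ideal SA := fun o => o.elim x fun P => (P.comap (CAlgFib.ι p)).comap (algebraMap SA C)
  have hsF : ∀ i ∈ s, i = none ∨ ∃ P ∈ associatedPrimes (p.Fiber C) (FlatCA.fiberMod p C M), i = some P := by
    intro i hi
    rcases Finset.mem_insert.1 hi with h | h
    · exact Or.inl h
    · obtain ⟨P, hP, rfl⟩ := Finset.mem_image.1 h
      exact Or.inr ⟨P, hfin.mem_toFinset.1 hP, rfl⟩
  have hprime : ∀ i ∈ s, (F i).IsPrime := by
    intro i hi
    rcases hsF i hi with rfl | ⟨P, hP, rfl⟩
    · exact ‹x.IsPrime›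
    · haveI := hP.1
      exact inferInstanceAs ((P.comap (CAlgFib.ι p)).comap (algebraMap SA C)).IsPrime
  have hnle : ¬ ((J : Set SA) ⊆ ⋃ i ∈ (↑s : Set _), (F i : Set SA)) := by
    rw [Ideal.subset_union_prime none none fun i hi _ _ => hprime i hi]
    rintro ⟨i, hi, hle⟩
    haveI := hprime i hi
    have hmem : (⟨F i, inferInstance⟩ : PrimeSpectrum SA) ∈ Set.range (PrimeSpectrum.comap (algebraMap SA C)) := by
      rcases hsF i hi with rfl | ⟨P, hP, rfl⟩
      · obtain ⟨y, hy, hyx⟩ := hx
        exact ⟨⟨y, hy⟩, PrimeSpectrum.ext hyx⟩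
      · haveI := hP.1
        exact ⟨⟨P.comap (CAlgFib.ι p), inferInstance⟩, rfl⟩
    exact (hT ▸ (PrimeSpectrum.mem_zeroLocus _ _).2 (Ideal.subset_span.trans hle) :
      (⟨F i, inferInstance⟩ : PrimeSpectrum SA) ∈ (Set.range (PrimeSpectrum.comap (algebraMap SA C)))ᶜ) hmem
  obtain ⟨g, hgJ, hg⟩ := Set.not_subset.1 hnle
  have hg' : ∀ i ∈ s, g ∉ F i := fun i hi hm => hg (Set.mem_biUnion hi hm)
  refine ⟨g, hg' none (Finset.mem_insert_self _ _), fun Q hQ hgQ => ?_, fun P hP =>
    hg' (some P) (Finset.mem_insert_of_mem (Finset.mem_image_of_mem _ (hfin.mem_toFinset.2 hP)))⟩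
  by_contra hno
  push Not at hno
  have hQc : (⟨Q, hQ⟩ : PrimeSpectrum SA) ∈ (Set.range (PrimeSpectrum.comap (algebraMap SA C)))ᶜ :=
    fun ⟨y, hy⟩ => hno y.asIdeal y.2 (congrArg PrimeSpectrum.asIdeal hy)
  rw [hT, PrimeSpectrum.mem_zeroLocus] at hQc
  exact hgQ (Ideal.span_le.2 hQc hgJ)

/-- Projectivity on a basic open inside the image of a projective chart. -/
theorem projective_away {A SA C : Type u} [CommRing A] [CommRing SA] [CommRing C] [Algebra A SA] [Algebra A C] [Algebra SA C]
    [IsScalarTower A SA C] [Algebra.FiniteType A SA] [Module.Flat SA C] [Algebra.FiniteType SA C]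
    (NA : Type u) [AddCommGroup NA] [Module SA NA] [Module.Finite SA NA] [Module.Projective A (C ⊗[SA] NA)] (g : SA)
    (hg : ∀ Q : Ideal SA, Q.IsPrime → g ∉ Q → ∃ y : Ideal C, y.IsPrime ∧ y.comap (algebraMap SA C) = Q)
    (havoid : ∀ (t : Ideal A) [t.IsPrime],
      ∀ P ∈ associatedPrimes (t.Fiber C) (FlatCA.fiberMod t C (C ⊗[SA] NA)), CAlgFib.ι t (algebraMap SA C g) ∉ P) :
    Module.Projective A (Localization.Away g ⊗[SA] NA) := by
  haveI : Algebra.FiniteType A C := Algebra.FiniteType.trans ‹Algebra.FiniteType A SA› ‹Algebra.FiniteType SA C›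
  let h := algebraMap SA C g
  let U := Localization.Away g
  let V := Localization (Submonoid.powers h)
  have hu : IsUnit (algebraMap SA V g) := by
    rw [IsScalarTower.algebraMap_apply SA C V]
    exact IsLocalization.Away.algebraMap_isUnit _
  letI : Algebra U V := (IsLocalization.Away.lift (S := U) g (g := algebraMap SA V) hu).toAlgebra
  haveI : IsScalarTower SA U V := .of_algebraMap_eq fun z => (IsLocalization.Away.lift_eq g hu z).symm
  haveI : IsScalarTower A U V := IsScalarTower.of_algebraMap_eq (R := A) (S := U) (A := V) fun r => by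
    rw [IsScalarTower.algebraMap_apply A SA U, ← IsScalarTower.algebraMap_apply SA U V,
      IsScalarTower.algebraMap_apply A C V, IsScalarTower.algebraMap_apply A SA C, ← IsScalarTower.algebraMap_apply SA C V]
  haveI : Module.Flat C V := IsLocalization.flat _ (Submonoid.powers h)
  haveI : Module.Flat SA V := Module.Flat.trans SA C V
  haveI : Module.Flat U V := (Module.flat_iff_of_isLocalization U (Submonoid.powers g) V).2 inferInstance
  haveI : Module.FaithfullyFlat U V := by
    refine Module.FaithfullyFlat.of_comap_surjective fun P => ?_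
    have hP : g ∉ (P.asIdeal.comap (algebraMap SA U)) := fun hm =>
      P.isPrime.ne_top (Ideal.eq_top_of_isUnit_mem _ hm (IsLocalization.Away.algebraMap_isUnit g))
    obtain ⟨y, hy, hyP⟩ := hg _ inferInstance hP
    haveI := hy
    have hy' : h ∉ y := fun hm => hP (hyP ▸ hm)
    obtain ⟨z, hz⟩ : (⟨y, hy⟩ : PrimeSpectrum C) ∈ Set.range (PrimeSpectrum.comap (algebraMap C V)) := by
      rw [show Set.range (PrimeSpectrum.comap (algebraMap C V)) = (PrimeSpectrum.basicOpen h : Set _) from
        PrimeSpectrum.localization_away_comap_range V _]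
      exact hy'
    refine ⟨z, PrimeSpectrum.localization_comap_injective U (Submonoid.powers g) ?_⟩
    rw [show PrimeSpectrum.comap (algebraMap SA U) P = PrimeSpectrum.comap (algebraMap SA C) ⟨y, hy⟩ from
      (PrimeSpectrum.ext hyP).symm, ← hz, ← PrimeSpectrum.comap_comp_apply, ← PrimeSpectrum.comap_comp_apply,
      ← IsScalarTower.algebraMap_eq, ← IsScalarTower.algebraMap_eq]
  let X := U ⊗[SA] NA
  haveI : Module.Projective A (LocalizedModule (Submonoid.powers h) (C ⊗[SA] NA)) := by
    haveI : Module.Flat A (V ⊗[C] (C ⊗[SA] NA)) := DevLib.flat_tensor _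
    haveI : Module.Flat A (LocalizedModule (Submonoid.powers h) (C ⊗[SA] NA)) :=
      Module.Flat.of_linearEquiv ((LocalizedModule.equivTensorProduct _ (C ⊗[SA] NA)).restrictScalars A)
    haveI : Algebra.FinitePresentation C V := IsLocalization.Away.finitePresentation h
    haveI : Algebra.FiniteType C V := inferInstance
    haveI : Algebra.FiniteType A V := Algebra.FiniteType.trans ‹Algebra.FiniteType A C› ‹Algebra.FiniteType C V›
    exact MLProjLib.projective_of_countablyGenerated
      (isMittagLeffler_localized h (univInj_localized h havoid) (MLProjLib.isMittagLeffler_of_projective _))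
      (ProjPureLib.isCountablyGenerated A V _)
  let e : LocalizedModule (Submonoid.powers h) (C ⊗[SA] NA) ≃ₗ[A] V ⊗[U] X :=
    ((LocalizedModule.equivTensorProduct _ (C ⊗[SA] NA)).restrictScalars A).trans
      (((AlgebraTensorModule.cancelBaseChange SA C V V NA).restrictScalars A).trans
        ((AlgebraTensorModule.cancelBaseChange SA U V V NA).restrictScalars A).symm)
  haveI : Module.Projective A (V ⊗[U] X) := Module.Projective.of_equiv e
  haveI : Module.Flat A X := DevLib.flat_descend (T := U) (U := V) X inferInstance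
  let j : X →ₗ[A] V ⊗[U] X := (TensorProduct.mk U V X 1).restrictScalars A
  haveI : Algebra.FinitePresentation SA U := IsLocalization.Away.finitePresentation g
  haveI : Algebra.FiniteType SA U := inferInstance
  haveI : Algebra.FiniteType A U := Algebra.FiniteType.trans ‹Algebra.FiniteType A SA› ‹Algebra.FiniteType SA U›
  refine projective_of_univInj (ProjPureLib.isCountablyGenerated A U X) (MLProjLib.isMittagLeffler_of_projective _) j
    fun Q _ _ => (LinearMap.lTensor_inj_iff_rTensor_inj Q j).2 ?_
  let a := AlgebraTensorModule.assoc A U U V X Q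
  have key : ∀ z, a (j.rTensor Q z) = (1 : V) ⊗ₜ[U] z := fun z => by
    induction z using TensorProduct.induction_on with
    | zero => simp
    | tmul m c => simp [a, j]
    | add u v hu hv => rw [map_add, map_add, hu, hv, TensorProduct.tmul_add]
  intro z z' hz
  exact Module.FaithfullyFlat.tensorProduct_mk_injective (A := U) (B := V) (X ⊗[A] Q)
    (show (1 : V) ⊗ₜ[U] z = (1 : V) ⊗ₜ[U] z' by rw [← key, ← key, hz])

end Groth.Agent.PureCritLib
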