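import Groth.Prelude.Def_FlatCA
import Groth.Agent.S4796
import Groth.Agent.S6338
import Groth.Agent.FibAssLib.Detect
import Groth.Agent.MLProjLib.Countable
import Groth.Agent.ProjPureLib.Basic

/-!
# Projectivity through universally injective maps, and spreading conditions on associated points
-/

set_option autoImplicit false
set_option linter.style.haveILetI false
set_option backward.isDefEq.respectTransparency false
set_option backward.isDefEq.respectTransparency.types false
set_option maxHeartbeats 1000000

universe u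

open TensorProduct

noncomputable section

namespace Groth.Agent.PureCritLib

attribute [local instance] Algebra.TensorProduct.rightAlgebra

/-- A countably generated flat module universally injective into a Mittag-Leffler module is projective. -/
theorem projective_of_univInj {A M₁ M₂ : Type u} [CommRing A] [AddCommGroup M₁] [Module A M₁] [AddCommGroup M₂]
    [Module A M₂] [Module.Flat A M₁] (hc : CAlg.IsCountablyGenerated A M₁) (h₂ : CAlg.IsMittagLeffler A M₂)
    (f : M₁ →ₗ[A] M₂) (hf : FlatCA.UnivInj A f) : Module.Projective A M₁ :=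
  MLProjLib.projective_of_countablyGenerated
    (S6338.result A f (fun Q _ _ => (LinearMap.lTensor_inj_iff_rTensor_inj Q f).1 (hf Q)) h₂) hc

/-- Localising at an element keeps the Mittag-Leffler property when the module maps universally injectively. -/
theorem isMittagLeffler_localized {A S M : Type u} [CommRing A] [CommRing S] [Algebra A S] [AddCommGroup M] [Module S M]
    [Module A M] [IsScalarTower A S M] (g : S)
    (hι : FlatCA.UnivInj A ((LocalizedModule.mkLinearMap (Submonoid.powers g) M).restrictScalars A))
    (hM : CAlg.IsMittagLeffler A M) : CAlg.IsMittagLeffler A (LocalizedModule (Submonoid.powers g) M) := by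
  intro ι Q _ _
  let L := LocalizedModule (Submonoid.powers g) M
  let j : M →ₗ[A] L := (LocalizedModule.mkLinearMap (Submonoid.powers g) M).restrictScalars A
  let sm : ℕ → (L →ₗ[A] L) := fun n => (LinearMap.lsmul S L (g ^ n)).restrictScalars A
  have hsm : ∀ n, Function.Bijective (sm n) := fun n => by
    have h := IsLocalizedModule.map_units (LocalizedModule.mkLinearMap (Submonoid.powers g) M)
      (⟨g ^ n, n, rfl⟩ : Submonoid.powers g)
    rw [Module.End.isUnit_iff] at h
    exact h
  have hadd : ∀ m n, sm (m + n) = sm m ∘ₗ sm n := fun m n => LinearMap.ext fun x => by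
    show g ^ (m + n) • x = g ^ m • g ^ n • x
    rw [pow_add, mul_smul]
  have hj : ∀ n (w : M ⊗[A] (∀ i, Q i)), ∃ y, (sm n).rTensor _ (j.rTensor _ w) = j.rTensor _ y := fun n w =>
    ⟨((LinearMap.lsmul S M (g ^ n)).restrictScalars A).rTensor _ w, by
      rw [← LinearMap.rTensor_comp_apply, ← LinearMap.rTensor_comp_apply]
      congr 2
      exact LinearMap.ext fun x => ((LocalizedModule.mkLinearMap (Submonoid.powers g) M).map_smul (g ^ n) x).symm⟩
  have hz : ∀ z : L ⊗[A] (∀ i, Q i), ∃ n y, (sm n).rTensor _ z = j.rTensor _ y := by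
    intro z
    induction z using TensorProduct.induction_on with
    | zero => exact ⟨0, 0, by simp⟩
    | tmul x q =>
      obtain ⟨⟨m, s, n, rfl⟩, h⟩ := IsLocalizedModule.surj (Submonoid.powers g) (LocalizedModule.mkLinearMap (Submonoid.powers g) M) x
      exact ⟨n, m ⊗ₜ q, (congrArg (· ⊗ₜ[A] q) h : (g ^ n • x) ⊗ₜ[A] q = j m ⊗ₜ[A] q)⟩
    | add u v hu hv =>
      obtain ⟨n, y, hy⟩ := hu
      obtain ⟨m, y', hy'⟩ := hv
      obtain ⟨a, ha⟩ := hj m y
      obtain ⟨b, hb⟩ := hj n y'
      refine ⟨m + n, a + b, ?_⟩
      rw [map_add, map_add, hadd]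
      nth_rw 2 [show sm m ∘ₗ sm n = sm n ∘ₗ sm m from by rw [← hadd, add_comm, hadd]]
      rw [LinearMap.rTensor_comp_apply, LinearMap.rTensor_comp_apply, hy, hy', ha, hb]
  refine (injective_iff_map_eq_zero _).2 fun z hz0 => ?_
  obtain ⟨n, y, hy⟩ := hz z
  have hy0 : y = 0 := (injective_iff_map_eq_zero _).1 (hM ι Q) y (funext fun k => by
    have h1 := congrArg (fun w => TensorProduct.piRightHom A A L Q w k) hy
    simp only [CAlgBasics.piRightHom_rTensor] at h1
    rw [congrFun hz0 k, Pi.zero_apply, map_zero] at h1
    exact (LinearMap.lTensor_inj_iff_rTensor_inj (Q k) j).1 (hι (Q k)) (h1.symm.trans (map_zero _).symm))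
  subst hy0
  rw [map_zero] at hy
  exact (LinearEquiv.rTensor (∀ i, Q i) (LinearEquiv.ofBijective (sm n) (hsm n))).injective (hy.trans (map_zero _).symm)

/-- Localisation at an element off all associated points of the fibres is universally injective. -/
theorem univInj_localized {A S M : Type u} [CommRing A] [CommRing S] [Algebra A S] [Algebra.FiniteType A S]
    [AddCommGroup M] [Module S M] [Module A M] [IsScalarTower A S M] [Module.Finite S M] [Module.Flat A M] (g : S)
    (hg : ∀ (t : Ideal A) [t.IsPrime], ∀ P ∈ associatedPrimes (t.Fiber S) (FlatCA.fiberMod t S M), CAlgFib.ι t g ∉ P) :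
    FlatCA.UnivInj A ((LocalizedModule.mkLinearMap (Submonoid.powers g) M).restrictScalars A) := by
  let V := Localization (Submonoid.powers g)
  haveI : Module.Flat S V := IsLocalization.flat _ (Submonoid.powers g)
  have h := FibAssLib.univInj_mk (R := A) (S := S) (N := M) (S' := V) fun t q _ _ _ hq => by
    have hgq : g ∉ q := fun hm => hg t _ hq (Ideal.mem_map_of_mem _ hm)
    have hd : Disjoint (Submonoid.powers g : Set S) q :=
      (Ideal.disjoint_powers_iff_notMem g (Ideal.IsPrime.isRadical ‹_›)).2 hgq
    haveI := IsLocalization.liesOver_map_of_isPrime_disjoint (Submonoid.powers g) V hd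
    exact ⟨q.map (algebraMap S V), IsLocalization.isPrime_of_isPrime_disjoint (Submonoid.powers g) V q inferInstance hd,
      ((q.map (algebraMap S V)).over_def q).symm⟩
  intro Q _ _
  let e : V ⊗[S] M ≃ₗ[A] LocalizedModule (Submonoid.powers g) M :=
    ((LocalizedModule.equivTensorProduct (Submonoid.powers g) M).restrictScalars A).symm
  have hc : (LocalizedModule.mkLinearMap (Submonoid.powers g) M).restrictScalars A =
      e.toLinearMap ∘ₗ (TensorProduct.mk S V M 1).restrictScalars A := by
    refine LinearMap.ext fun x => e.symm.injective ?_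
    simp [e, LocalizedModule.mkLinearMap_apply, LocalizedModule.equivTensorProduct_symm_apply_tmul_one]
    exact (LocalizedModule.equivTensorProduct_symm_apply_tmul_one _ x).symm
  rw [hc, LinearMap.lTensor_comp]
  exact (LinearEquiv.lTensor Q e).injective.comp (h Q)

/-- A constructible set containing all generalisations of a point contains a basic open around it. -/
theorem exists_basicOpen_subset {A : Type u} [CommRing A] {E : Set (PrimeSpectrum A)} (hE : Topology.IsConstructible E)
    (p : Ideal A) [p.IsPrime] (h : ∀ t : PrimeSpectrum A, t.asIdeal ≤ p → t ∈ E) :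
    ∃ f : A, f ∉ p ∧ ∀ t : PrimeSpectrum A, f ∉ t.asIdeal → t ∈ E := by
  obtain ⟨S, _, φ, hφ⟩ := PrimeSpectrum.exists_range_eq_of_isConstructible hE.compl
  have hp : ¬ RingHom.ker φ ≤ p := fun hle => by
    obtain ⟨t, ht, htp⟩ := Ideal.exists_minimalPrimes_le hle
    haveI := ht.1.1
    obtain ⟨y, hy1, -, hy2⟩ := Ideal.exists_comap_eq_of_mem_minimalPrimes φ (I := ⊥) t (by rwa [← RingHom.ker_eq_comap_bot])
    have hy : y.IsPrime ∧ y.comap φ = t := ⟨hy1, hy2⟩
    haveI := hy.1
    exact (hφ.le ⟨⟨y, inferInstance⟩, rfl⟩ : PrimeSpectrum.comap φ ⟨y, inferInstance⟩ ∈ Eᶜ) (h _ (hy.2.le.trans htp))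
  obtain ⟨f, hf, hfp⟩ := SetLike.not_le_iff_exists.1 hp
  refine ⟨f, hfp, fun t hft => by_contra fun ht => hft ?_⟩
  obtain ⟨y, rfl⟩ := (hφ.ge ht : t ∈ Set.range (PrimeSpectrum.comap φ))
  show φ f ∈ y.asIdeal
  rw [RingHom.mem_ker.1 hf]
  exact y.asIdeal.zero_mem

/-- The fibres whose associated points all avoid the zero locus of finitely many elements form a constructible set. -/
theorem isConstructible_assAvoid {A S : Type u} [CommRing A] [CommRing S] [Algebra A S] [Algebra.FinitePresentation A S]
    (N : Type u) [AddCommGroup N] [Module S N] [Module A N] [IsScalarTower A S N] [Module.FinitePresentation S N]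
    {k : ℕ} (g : Fin k → S) :
    Topology.IsConstructible {t : PrimeSpectrum A | ∀ P ∈ associatedPrimes (t.asIdeal.Fiber S) (FlatCA.fiberMod t.asIdeal S N),
      ∃ j, CAlgFib.ι t.asIdeal (g j) ∉ P} := by
  classical
  let φ : N →ₗ[S] (Fin k → N) := LinearMap.pi fun j => LinearMap.lsmul S N (g j)
  convert S4796.result (R := A) (B := S) (0 : PUnit.{u + 1} →ₗ[S] N) φ using 1
  ext t
  let K := t.asIdeal.ResidueField
  let φK := (φ.restrictScalars A).baseChange K
  let e : (t.asIdeal.Fiber S) ⊗[S] N ≃ₗ[K] K ⊗[A] N := Algebra.IsPushout.cancelBaseChange A K S (t.asIdeal.Fiber S) N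
  have he : ∀ (s : S) (z : K ⊗[A] N), e.symm (((LinearMap.lsmul S N s).restrictScalars A).baseChange K z) =
      CAlgFib.ι t.asIdeal s • e.symm z := fun s z => by
    induction z using TensorProduct.induction_on with
    | zero => simp
    | add u v hu hv => simp only [map_add, smul_add, hu, hv]
    | tmul c n =>
      rw [LinearMap.baseChange_tmul, show ∀ x : (t.asIdeal.Fiber S) ⊗[S] N, CAlgFib.ι t.asIdeal s • x = s • x from
        fun x => algebraMap_smul (t.asIdeal.Fiber S) s x]
      show e.symm (c ⊗ₜ[A] (s • n)) = s • e.symm (c ⊗ₜ[A] n)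
      have h1 : ∀ n : N, e.symm (c ⊗ₜ[A] n) = algebraMap K (t.asIdeal.Fiber S) c ⊗ₜ[S] n := fun n =>
        Algebra.IsPushout.cancelBaseChangeAux_symm_tmul A K S (t.asIdeal.Fiber S) N c n
      rw [h1, h1]
      exact TensorProduct.tmul_smul s _ n
  have hproj : ∀ j z, ((LinearMap.proj (R := A) (φ := fun _ : Fin k => N) j).baseChange K) (φK z) =
      ((LinearMap.lsmul S N (g j)).restrictScalars A).baseChange K z := fun j z => by
    rw [← LinearMap.comp_apply, ← LinearMap.baseChange_comp]
    rfl
  have hid : ∀ z' : K ⊗[A] (Fin k → N), z' = ∑ j, (LinearMap.single A (fun _ : Fin k => N) j).baseChange K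
      ((LinearMap.proj (R := A) (φ := fun _ : Fin k => N) j).baseChange K z') := fun z' => by
    induction z' using TensorProduct.induction_on with
    | zero => simp
    | add u v hu hv => simp only [map_add, Finset.sum_add_distrib, ← hu, ← hv]
    | tmul c n =>
      simp only [LinearMap.baseChange_tmul, ← TensorProduct.tmul_sum]
      congr 1
      exact (Finset.univ_sum_single n).symm
  have hsum : ∀ z' : K ⊗[A] (Fin k → N), (∀ j, (LinearMap.proj (R := A) (φ := fun _ : Fin k => N) j).baseChange K z' = 0) →
      z' = 0 := fun z' hz' => by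
    rw [hid z']
    simp [hz']
  have hexact : Function.Exact (((0 : PUnit.{u + 1} →ₗ[S] N).restrictScalars A).baseChange K) φK ↔
      ∀ z, φK z = 0 → z = 0 := by
    simp only [Function.Exact, LinearMap.restrictScalars_zero, LinearMap.baseChange_zero, LinearMap.zero_apply, Set.mem_range]
    exact ⟨fun h z hz => ((h z).1 hz).choose_spec.symm, fun h z => ⟨fun hz => ⟨0, (h z hz).symm⟩,
      fun ⟨_, hy⟩ => by rw [← hy, map_zero]⟩⟩
  show _ ↔ Function.Exact _ φK
  rw [hexact]
  haveI : IsNoetherianRing (t.asIdeal.Fiber S) := inferInstance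
  constructor
  · intro h z hz
    by_contra hne
    have hne' : e.symm z ≠ 0 := fun h0 => hne (e.symm.injective (h0.trans (map_zero _).symm))
    obtain ⟨P, hP, hle⟩ := exists_le_isAssociatedPrime_of_isNoetherianRing (t.asIdeal.Fiber S) (e.symm z) hne'
    obtain ⟨j, hj⟩ := h P hP
    refine hj (hle ?_)
    rw [Submodule.mem_colon_singleton, Submodule.mem_bot, ← he, ← hproj, hz, map_zero, map_zero]
  · intro h P hP
    obtain ⟨hPp, y, hy⟩ := isAssociatedPrime_iff.1 hP
    by_contra hall
    push Not at hall
    have hy0 : y ≠ 0 := fun h0 => hPp.ne_top (by rw [hy, h0, eq_top_iff]; intro x _; simp)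
    refine hy0 (e.injective ((h (e y) (hsum _ fun j => ?_)).trans (map_zero e).symm))
    apply e.symm.injective
    rw [hproj, he, LinearEquiv.symm_apply_apply, map_zero]
    have := hall j
    rw [hy, Submodule.mem_colon_singleton, Submodule.mem_bot] at this
    exact this

end Groth.Agent.PureCritLib
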